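import Mathlib

/-!
In a finite commutative ring with an involution which is nowhere trivial, every fixed unit is a norm.
-/

set_option autoImplicit false
set_option linter.unusedSectionVars false

namespace Cfsg.Agent.Small.ClassNumberU

variable {S : Type*} [CommRing S] [Finite S]

/-- Hilbert's theorem 90. -/
theorem hilbert90 (τ : S →+* S) (hττ : ∀ x, τ (τ x) = x) {w : S} (hw : IsUnit (w - τ w))
    {u : S} (hu : u * τ u = 1) : ∃ z : Sˣ, u * τ z = z := by
  classical
  haveI : Fintype (MaximalSpectrum S) := Fintype.ofFinite _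
  let e := Fintype.equivFin (MaximalSpectrum S)
  let bar : MaximalSpectrum S → MaximalSpectrum S := fun m =>
    ⟨m.asIdeal.comap τ, by
      have := m.isMaximal
      exact Ideal.comap_isMaximal_of_surjective τ (fun x => ⟨τ x, hττ x⟩)⟩
  have hbb : ∀ m, bar (bar m) = m := fun m => by
    apply MaximalSpectrum.ext
    ext x
    simp [bar, Ideal.mem_comap, hττ]
  have hmem : ∀ (m : MaximalSpectrum S) x, x ∈ (bar m).asIdeal ↔ τ x ∈ m.asIdeal := fun m x => Iff.rfl
  have hunit : ∀ {x : S} (m : MaximalSpectrum S), IsUnit x → x ∉ m.asIdeal := fun m hx hm =>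
    m.isMaximal.ne_top (Ideal.eq_top_of_isUnit_mem _ hm hx)
  have huu : IsUnit u := IsUnit.of_mul_eq_one _ hu
  -- the prescribed residues
  let val : MaximalSpectrum S → S := fun m =>
    if bar m = m then (if 1 + u ∈ m.asIdeal then w else 1) else if e m < e (bar m) then 1 else 0
  obtain ⟨a, ha⟩ : ∃ a : S, ∀ m : MaximalSpectrum S, a - val m ∈ m.asIdeal := by
    obtain ⟨a, ha⟩ := Ideal.exists_forall_sub_mem_ideal (ι := MaximalSpectrum S) (I := fun m => m.asIdeal)
      (fun m m' hne => Ideal.isCoprime_iff_codisjoint.2 (codisjoint_iff.2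
        (m.isMaximal.coprime_of_ne m'.isMaximal fun h => hne (MaximalSpectrum.ext h)))) val
    exact ⟨a, ha⟩
  have hz : ∀ m : MaximalSpectrum S, a + u * τ a ∉ m.asIdeal := by
    intro m hm
    have h1 := ha m
    have h2 : τ a - τ (val (bar m)) ∈ m.asIdeal := by
      rw [← map_sub, ← hmem]; exact ha (bar m)
    have h3 : val m + u * τ (val (bar m)) ∈ m.asIdeal := by
      have := Ideal.sub_mem _ hm (Ideal.add_mem _ h1 (Ideal.mul_mem_left _ u h2))
      convert this using 1
      ring
    by_cases hb : bar m = m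
    · rw [hb] at h3
      simp only [val, hb, if_true] at h3
      by_cases h4 : 1 + u ∈ m.asIdeal
      · rw [if_pos h4] at h3
        refine hunit m hw ?_
        have := Ideal.sub_mem _ h3 (Ideal.mul_mem_left _ (τ w) h4)
        convert this using 1
        ring
      · rw [if_neg h4, map_one, mul_one] at h3
        exact h4 h3
    · simp only [val, hb, hbb, if_false, Ne.symm hb] at h3
      rcases lt_trichotomy (e m) (e (bar m)) with h | h | h
      · rw [if_pos h, if_neg (not_lt.2 h.le), map_zero, mul_zero, add_zero] at h3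
        exact hunit m isUnit_one h3
      · exact hb (e.injective h).symm
      · rw [if_neg (not_lt.2 h.le), if_pos h, map_one, mul_one, zero_add] at h3
        exact hunit m huu h3
  have hzu : IsUnit (a + u * τ a) := by
    by_contra h
    obtain ⟨M, hM, hmem'⟩ := exists_max_ideal_of_mem_nonunits h
    exact hz ⟨M, hM⟩ hmem'
  refine ⟨hzu.unit, ?_⟩
  rw [IsUnit.unit_spec, map_add, map_mul, hττ, mul_add, ← mul_assoc, hu, one_mul, add_comm]

/-- A fixed unit is a norm. -/
theorem exists_norm_eq (τ : S →+* S) (hττ : ∀ x, τ (τ x) = x) {w : S} (hw : IsUnit (w - τ w))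
    (m : Sˣ) (hm : τ m = m) : ∃ y : Sˣ, τ y * y = (m : S) := by
  classical
  let τu : Sˣ →* Sˣ := Units.map τ.toMonoidHom
  let N : Sˣ →* Sˣ :=
    { toFun := fun x => τu x * x
      map_one' := by simp
      map_mul' := fun a b => by rw [map_mul, mul_mul_mul_comm] }
  let g : Sˣ →* Sˣ :=
    { toFun := fun x => x * (τu x)⁻¹
      map_one' := by simp
      map_mul' := fun a b => by rw [map_mul, _root_.mul_inv, mul_mul_mul_comm] }
  have hval : ∀ x : Sˣ, ((τu x : Sˣ) : S) = τ (x : S) := fun x => rfl
  have hNrange : N.range ≤ g.ker := by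
    rintro _ ⟨x, rfl⟩
    refine MonoidHom.mem_ker.2 (mul_inv_eq_one.2 ?_)
    show τu x * x = τu (τu x * x)
    ext
    simp only [Units.val_mul, hval, map_mul, hττ]
    ring
  have hker : g.range = N.ker := by
    ext x
    refine ⟨?_, fun hx => ?_⟩
    · rintro ⟨z, rfl⟩
      refine MonoidHom.mem_ker.2 ?_
      show τu (z * (τu z)⁻¹) * (z * (τu z)⁻¹) = 1
      rw [map_mul, map_inv, show τu (τu z) = z from Units.ext (hττ _)]
      rw [mul_mul_mul_comm, mul_comm (τu z), mul_comm z⁻¹, mul_mul_mul_comm]
      simp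
    · have hx' : (x : S) * τ (x : S) = 1 := by
        have h := congrArg (fun y : Sˣ => (y : S)) (MonoidHom.mem_ker.1 hx)
        rw [mul_comm]
        exact h
      obtain ⟨z, hz⟩ := hilbert90 τ hττ hw hx'
      refine ⟨z, mul_inv_eq_of_eq_mul (Units.ext ?_)⟩
      rw [Units.val_mul, hval]
      exact hz.symm
  have hcard : Nat.card N.range = Nat.card g.ker := by
    have h1 := Subgroup.card_eq_card_quotient_mul_card_subgroup N.ker
    have h2 := Subgroup.card_eq_card_quotient_mul_card_subgroup g.ker
    rw [Nat.card_congr (QuotientGroup.quotientKerEquivRange N).toEquiv] at h1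
    rw [Nat.card_congr (QuotientGroup.quotientKerEquivRange g).toEquiv, hker] at h2
    have h3 : 0 < Nat.card N.ker := Nat.card_pos
    rw [mul_comm (Nat.card N.range)] at h1
    exact Nat.eq_of_mul_eq_mul_left h3 (h1.symm.trans h2)
  have hmem : m ∈ g.ker := by
    refine MonoidHom.mem_ker.2 (mul_inv_eq_one.2 (Units.ext ?_))
    exact hm.symm
  rw [← Subgroup.eq_of_le_of_card_ge hNrange hcard.ge] at hmem
  obtain ⟨y, hy⟩ := hmem
  exact ⟨y, congrArg Units.val hy⟩

end Cfsg.Agent.Small.ClassNumberU
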