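import Mathlib
import Cfsg.Agent.Lib.Small.ClassNumberU.Norm

/-!
Fixed units of an anti-involution are of the form `j y * y` with `y` in a prescribed commutative
subring, as soon as that subring contains an element on which the involution is nowhere trivial.
-/

set_option autoImplicit false
set_option linter.unusedSectionVars false
set_option linter.style.haveILetI false

namespace Cfsg.Agent.Small.ClassNumberU

variable {R : Type*} [Ring R] [Finite R]

theorem mem_of_unit_inv (S : Subring R) {x : Rˣ} (hx : (x : R) ∈ S) : ((x⁻¹ : Rˣ) : R) ∈ S := by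
  have h1 : x⁻¹ = x ^ (orderOf x - 1) := by
    rw [inv_eq_iff_mul_eq_one, ← pow_succ', Nat.sub_add_cancel (orderOf_pos x), pow_orderOf_eq_one]
  rw [h1, Units.val_pow_eq_pow_val]
  exact Subring.pow_mem _ hx _

theorem isUnit_subring (S : Subring R) {x : R} (hx : x ∈ S) (h : IsUnit x) : IsUnit (⟨x, hx⟩ : S) := by
  obtain ⟨u, rfl⟩ := h
  exact ⟨⟨⟨(u : R), hx⟩, ⟨((u⁻¹ : Rˣ) : R), mem_of_unit_inv S hx⟩, Subtype.ext u.mul_inv, Subtype.ext u.inv_mul⟩, rfl⟩

theorem exists_root (j : R → R) (hadd : ∀ x y, j (x + y) = j x + j y) (hmul : ∀ x y, j (x * y) = j y * j x)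
    (hone : j 1 = 1) (hjj : ∀ x, j (j x) = x) (A : Set R) (hA : ∀ a ∈ A, ∀ b ∈ A, a * b = b * a)
    (hjA : ∀ a ∈ A, j a ∈ Subring.closure A) {w : R} (hwA : w ∈ A) (hw : IsUnit (w - j w))
    {M : R} (hMA : M ∈ A) (hMu : IsUnit M) (hM : j M = M) :
    ∃ y ∈ Subring.closure A, IsUnit y ∧ j y * y = M := by
  classical
  set S := Subring.closure A with hS
  have hj0 : j 0 = 0 := by
    have := hadd 0 0
    rw [add_zero] at this
    exact left_eq_add.1 this
  have hjS : ∀ x ∈ S, j x ∈ S := fun x hx => by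
    induction hx using Subring.closure_induction with
    | mem a ha => exact hjA a ha
    | zero => rw [hj0]; exact zero_mem _
    | one => rw [hone]; exact one_mem _
    | add x y _ _ ihx ihy => rw [hadd]; exact add_mem ihx ihy
    | neg x _ ihx =>
      have h : j (-x) + j x = 0 := by rw [← hadd, neg_add_cancel, hj0]
      rw [eq_neg_of_add_eq_zero_left h]
      exact neg_mem ihx
    | mul x y _ _ ihx ihy => rw [hmul]; exact mul_mem ihy ihx
  let _ : CommRing S := Subring.closureCommRingOfComm hA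
  let τ : S →+* S :=
    { toFun := fun x => ⟨j x.1, hjS x.1 x.2⟩
      map_one' := Subtype.ext hone
      map_mul' := fun x y => by
        rw [mul_comm x y]
        exact Subtype.ext (hmul y.1 x.1)
      map_zero' := Subtype.ext hj0
      map_add' := fun x y => Subtype.ext (hadd x.1 y.1) }
  have hwS : w ∈ S := Subring.subset_closure hwA
  have hMS : M ∈ S := Subring.subset_closure hMA
  obtain ⟨y, hy⟩ := exists_norm_eq τ (fun x => Subtype.ext (hjj x.1)) (w := ⟨w, hwS⟩)
    (by
      have : (⟨w, hwS⟩ : S) - τ ⟨w, hwS⟩ = ⟨w - j w, sub_mem hwS (hjS w hwS)⟩ := rfl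
      rw [this]
      exact isUnit_subring S _ hw)
    (isUnit_subring S hMS hMu).unit (by rw [IsUnit.unit_spec]; exact Subtype.ext hM)
  refine ⟨(y : S).1, (y : S).2, y.isUnit.map S.subtype, ?_⟩
  exact congrArg Subtype.val (hy.trans (IsUnit.unit_spec _))

end Cfsg.Agent.Small.ClassNumberU
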