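import Mathlib
import Cfsg.Agent.Lib.Small.ClassNumber.Inv
import Cfsg.Agent.Lib.Small.PSUn.Basic

/-!
The parameters of the classes of a unitary group are self-dual polynomials.
-/

set_option autoImplicit false
set_option linter.unusedSectionVars false
set_option linter.style.haveILetI false

namespace Cfsg.Agent.Small.ClassNumberU

open Polynomial Cfsg.Agent.Small.ClassNumber

universe u

variable {F : Type u} [Field F] [StarRing F]

/-- The conjugate-reciprocal of a polynomial, normalised to be monic. -/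
noncomputable def dual (G : F[X]) : F[X] := C (star (G.coeff 0))⁻¹ * (G.map (starRingEnd F)).reverse

theorem map_natDegree (G : F[X]) : (G.map (starRingEnd F)).natDegree = G.natDegree :=
  natDegree_map_eq_of_injective (starRingEnd F).injective _

theorem coeff_dual (G : F[X]) {i : ℕ} (hi : i ≤ G.natDegree) :
    (dual G).coeff i = (star (G.coeff 0))⁻¹ * star (G.coeff (G.natDegree - i)) := by
  rw [dual, coeff_C_mul, coeff_reverse, map_natDegree, revAt_le hi, coeff_map]
  rfl

theorem dual_spec {G : F[X]} (hm : G.Monic) (h0 : G.coeff 0 ≠ 0) :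
    (dual G).Monic ∧ (dual G).natDegree = G.natDegree ∧ (dual G).coeff 0 ≠ 0 := by
  have hs : star (G.coeff 0) ≠ 0 := star_ne_zero.2 h0
  have hd : (dual G).natDegree ≤ G.natDegree := by
    rw [dual, natDegree_C_mul (inv_ne_zero hs)]
    exact (reverse_natDegree_le _).trans (map_natDegree G).le
  have htop : (dual G).coeff G.natDegree = 1 := by rw [coeff_dual G le_rfl, Nat.sub_self, inv_mul_cancel₀ hs]
  refine ⟨monic_of_natDegree_le_of_coeff_eq_one _ hd htop,
    le_antisymm hd (le_natDegree_of_ne_zero (by rw [htop]; exact one_ne_zero)), ?_⟩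
  rw [coeff_dual G (Nat.zero_le _), Nat.sub_zero, hm.coeff_natDegree, star_one, mul_one]
  exact inv_ne_zero hs

theorem dual_dual {G : F[X]} (hm : G.Monic) (h0 : G.coeff 0 ≠ 0) : dual (dual G) = G := by
  obtain ⟨hm', hd', h0'⟩ := dual_spec hm h0
  obtain ⟨hm'', hd'', -⟩ := dual_spec hm' h0'
  have hs : star (G.coeff 0) ≠ 0 := star_ne_zero.2 h0
  refine Polynomial.ext fun i => ?_
  by_cases hi : i ≤ G.natDegree
  · rw [coeff_dual _ (hi.trans hd'.ge), hd', coeff_dual G (Nat.sub_le _ _), coeff_dual G (Nat.zero_le _),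
      Nat.sub_zero, Nat.sub_sub_self hi, hm.coeff_natDegree, star_one, mul_one, star_inv₀, star_star, inv_inv,
      star_mul', star_inv₀, star_star, star_star, ← mul_assoc, mul_inv_cancel₀ h0, one_mul]
  · rw [coeff_eq_zero_of_natDegree_lt (by omega), coeff_eq_zero_of_natDegree_lt (by omega)]

theorem dual_mul (G H : F[X]) : dual (G * H) = dual G * dual H := by
  rw [dual, dual, dual, mul_coeff_zero, Polynomial.map_mul, reverse_mul_of_domain, star_mul', mul_inv, C_mul]
  ring

theorem dual_one : dual (1 : F[X]) = 1 := by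
  rw [dual, Polynomial.map_one, ← C_1, reverse_C, coeff_C_zero, star_one, inv_one, C_1, one_mul]

theorem dual_irreducible {P : F[X]} (hP : Irreducible P) (hm : P.Monic) (h0 : P.coeff 0 ≠ 0) :
    Irreducible (dual P) := by
  obtain ⟨hm', hd', h0'⟩ := dual_spec hm h0
  rw [hm'.irreducible_iff_natDegree]
  refine ⟨fun h => ?_, fun f g hf hg hfg => ?_⟩
  · have := congrArg natDegree h
    rw [hd', natDegree_one] at this
    exact hP.natDegree_pos.ne' this
  · have hc : (f * g).coeff 0 ≠ 0 := by rwa [hfg]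
    rw [mul_coeff_zero] at hc
    obtain ⟨hfm, hfd, -⟩ := dual_spec hf (left_ne_zero_of_mul hc)
    obtain ⟨hgm, hgd, -⟩ := dual_spec hg (right_ne_zero_of_mul hc)
    have hh : dual f * dual g = P := by rw [← dual_mul, hfg, dual_dual hm h0]
    rcases (hm.irreducible_iff_natDegree.1 hP).2 _ _ hfm hgm hh with h | h
    · exact Or.inl (hfd ▸ h)
    · exact Or.inr (hgd ▸ h)

open Classical in
/-- `dual` extended by the identity. -/
noncomputable def dualF (G : F[X]) : F[X] := if G.Monic ∧ G.coeff 0 ≠ 0 then dual G else G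

theorem dualF_eq {G : F[X]} (hm : G.Monic) (h0 : G.coeff 0 ≠ 0) : dualF G = dual G := if_pos ⟨hm, h0⟩

theorem dualF_invol : Function.Involutive (dualF : F[X] → F[X]) := fun G => by
  by_cases h : G.Monic ∧ G.coeff 0 ≠ 0
  · rw [dualF_eq h.1 h.2, dualF_eq (dual_spec h.1 h.2).1 (dual_spec h.1 h.2).2.2, dual_dual h.1 h.2]
  · rw [show dualF G = G from if_neg h, show dualF G = G from if_neg h]

theorem irreducible_dualF {P : F[X]} (hP : Irreducible P) (hm : P.Monic) :
    Irreducible (dualF P) ∧ (dualF P).Monic ∧ (dualF P).natDegree = P.natDegree := by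
  by_cases h0 : P.coeff 0 = 0
  · rw [show dualF P = P from if_neg fun h => h.2 h0]
    exact ⟨hP, hm, rfl⟩
  · rw [dualF_eq hm h0]
    exact ⟨dual_irreducible hP hm h0, (dual_spec hm h0).1, (dual_spec hm h0).2.1⟩

theorem aeval_reflect {R : Type*} [Ring R] [Algebra F R] {A B : R} (hBA : A * B = 1) (N : ℕ) (G : F[X])
    (hG : G.natDegree ≤ N) : aeval A (reflect N G) * B ^ N = aeval B G := by
  have hpow : ∀ i, A ^ i * B ^ i = 1 := fun i => by
    induction i with
    | zero => simp
    | succ i ih => rw [pow_succ, pow_succ', mul_assoc, ← mul_assoc A, hBA, one_mul, ih]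
  refine induction_with_natDegree_le (fun G => aeval A (reflect N G) * B ^ N = aeval B G) N (by simp) ?_ ?_ G hG
  · intro i r _ hi
    rw [reflect_C_mul_X_pow, revAt_le hi, map_mul, map_mul, map_pow, map_pow, aeval_C, aeval_C, aeval_X, aeval_X,
      mul_assoc]
    congr 1
    conv_lhs => arg 2; rw [show N = (N - i) + i by omega, pow_add]
    rw [← mul_assoc, hpow, one_mul]
  · intro f g _ _ hf hg
    rw [reflect_add, map_add, map_add, add_mul, hf, hg]

section Matrix

open Matrix

variable [Fintype F] {n : ℕ}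

theorem finrank_ker_map_star (M : Matrix (Fin n) (Fin n) F) :
    Module.finrank F (LinearMap.ker (Matrix.toLinAlgEquiv' (M.map (starRingEnd F)))) =
      Module.finrank F (LinearMap.ker (Matrix.toLinAlgEquiv' M)) := by
  refine Nat.pow_right_injective (Fintype.one_lt_card (α := F)) ?_
  simp only [← Nat.card_eq_fintype_card, ← Module.natCard_eq_pow_finrank]
  have key : ∀ (N : Matrix (Fin n) (Fin n) F) (x : Fin n → F),
      Matrix.toLinAlgEquiv' N x = 0 → Matrix.toLinAlgEquiv' (N.map (starRingEnd F)) (starRingEnd F ∘ x) = 0 := by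
    intro N x hx
    rw [Matrix.toLinAlgEquiv'_apply] at hx ⊢
    funext i
    rw [← RingHom.map_mulVec, hx]
    simp
  refine Nat.card_congr
    { toFun := fun x => ⟨starRingEnd F ∘ x.1, ?_⟩
      invFun := fun x => ⟨starRingEnd F ∘ x.1, key M x.1 x.2⟩
      left_inv := fun x => Subtype.ext (funext fun i => star_star _)
      right_inv := fun x => Subtype.ext (funext fun i => star_star _) }
  have h := key _ x.1 x.2
  rw [Matrix.map_map, show (starRingEnd F ∘ starRingEnd F : F → F) = id from funext fun a => star_star a,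
    Matrix.map_id] at h
  exact h

theorem finrank_ker_conjTranspose (M : Matrix (Fin n) (Fin n) F) :
    Module.finrank F (LinearMap.ker (Matrix.toLinAlgEquiv' Mᴴ)) =
      Module.finrank F (LinearMap.ker (Matrix.toLinAlgEquiv' M)) := by
  rw [show Mᴴ = (Mᵀ).map (starRingEnd F) from rfl, finrank_ker_map_star]
  have h1 := LinearMap.finrank_range_add_finrank_ker (Matrix.toLinAlgEquiv' Mᵀ)
  have h2 := LinearMap.finrank_range_add_finrank_ker (Matrix.toLinAlgEquiv' M)
  have h3 : Module.finrank F (LinearMap.range (Matrix.toLinAlgEquiv' Mᵀ)) =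
      Module.finrank F (LinearMap.range (Matrix.toLinAlgEquiv' M)) := Matrix.rank_transpose M
  omega

theorem aeval_conjTranspose (A : Matrix (Fin n) (Fin n) F) (G : F[X]) :
    (aeval A G)ᴴ = aeval Aᴴ (G.map (starRingEnd F)) := by
  induction G using Polynomial.induction_on' with
  | add p r hp hr => rw [map_add, conjTranspose_add, hp, hr, Polynomial.map_add, map_add]
  | monomial i a =>
    rw [map_monomial, aeval_monomial, aeval_monomial, conjTranspose_mul, conjTranspose_pow,
      Algebra.algebraMap_eq_smul_one, Algebra.algebraMap_eq_smul_one, conjTranspose_smul, conjTranspose_one,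
      Matrix.mul_smul, Matrix.smul_mul, Matrix.mul_one, Matrix.one_mul]
    rfl

theorem finrank_ker_dual {A : Matrix (Fin n) (Fin n) F} (hA : Aᴴ * A = 1) {P : F[X]} (h0 : P.coeff 0 ≠ 0) :
    Module.finrank F (LinearMap.ker (aeval (Matrix.toLinAlgEquiv' A) (dual P))) =
      Module.finrank F (LinearMap.ker (aeval (Matrix.toLinAlgEquiv' A) P)) := by
  have hA' : A * Aᴴ = 1 := mul_eq_one_comm.1 hA
  have e : aeval A (dual P) = ((star (P.coeff 0))⁻¹ • 1) * ((aeval A P)ᴴ * A ^ P.natDegree) := by
    have h := aeval_reflect (F := F) hA' P.natDegree (P.map (starRingEnd F)) (map_natDegree P).le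
    rw [aeval_conjTranspose, ← h, mul_assoc, ← (Commute.mul_pow (show Commute Aᴴ A from hA.trans hA'.symm)),
      hA, one_pow, mul_one, dual, map_mul, aeval_C, Algebra.algebraMap_eq_smul_one, Polynomial.reverse, map_natDegree]
  rw [aeval_toLinAlgEquiv', aeval_toLinAlgEquiv', e, map_mul, map_mul, ← finrank_ker_conjTranspose (aeval A P)]
  have hu : IsUnit (Matrix.toLinAlgEquiv' ((star (P.coeff 0))⁻¹ • (1 : Matrix (Fin n) (Fin n) F))) := by
    refine IsUnit.map _ ?_
    rw [← Algebra.algebraMap_eq_smul_one]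
    exact (inv_ne_zero (star_ne_zero.2 h0)).isUnit.map _
  have hu' : IsUnit (Matrix.toLinAlgEquiv' (A ^ P.natDegree)) :=
    ((IsUnit.of_mul_eq_one _ hA').pow _).map _
  set a := Matrix.toLinAlgEquiv' ((star (P.coeff 0))⁻¹ • (1 : Matrix (Fin n) (Fin n) F))
  set b := Matrix.toLinAlgEquiv' (A ^ P.natDegree)
  set c := Matrix.toLinAlgEquiv' (aeval A P)ᴴ
  obtain ⟨⟨b, b', hb, hb'⟩, rfl⟩ := hu'
  have hbi : ∀ x, b' (b x) = x := fun x => LinearMap.congr_fun hb' x
  have hib : ∀ x, b (b' x) = x := fun x => LinearMap.congr_fun hb x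
  have hai : Function.Injective a := ((Module.End.isUnit_iff _).1 hu).1
  let L : (Fin n → F) ≃ₗ[F] (Fin n → F) := LinearEquiv.ofLinear b' b (LinearMap.ext hbi) (LinearMap.ext hib)
  rw [← L.finrank_map_eq (LinearMap.ker c)]
  refine congrArg (fun S : Submodule F (Fin n → F) => Module.finrank F S) (Submodule.ext fun x => ?_)
  rw [Submodule.mem_map_equiv, LinearMap.mem_ker, LinearMap.mem_ker]
  show a (c (b x)) = 0 ↔ c (b x) = 0
  exact map_eq_zero_iff _ hai

/-- The parameters of a unitary matrix are self-dual. -/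
theorem dataOf_selfDual {g : GL (Fin n) F} (hg : (g : Matrix (Fin n) (Fin n) F)ᴴ * g.1 = 1) (k : Fin n) :
    dual ((dataOf g).1 k) = (dataOf g).1 k := by
  classical
  set D := decompOf g with hD
  have h1 : ∀ P : F[X], Irreducible P → P.Monic → ∀ j,
      Module.finrank F (LinearMap.ker (aeval (Matrix.toLinAlgEquiv' g.1) (dualF P ^ j))) =
        Module.finrank F (LinearMap.ker (aeval (Matrix.toLinAlgEquiv' g.1) (P ^ j))) := by
    intro P hP hm j
    by_cases h0 : P.coeff 0 = 0
    · rw [show dualF P = P from if_neg fun h => h.2 h0]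
    · have e : ∀ j, dual (P ^ j) = dual P ^ j := fun j => by
        induction j with
        | zero => rw [pow_zero, pow_zero, dual_one]
        | succ j ih => rw [pow_succ, pow_succ, dual_mul, ih]
      rw [dualF_eq hm h0, ← e]
      refine finrank_ker_dual hg ?_
      rw [coeff_zero_eq_eval_zero, eval_pow]
      exact pow_ne_zero _ (by rwa [← coeff_zero_eq_eval_zero])
  have h2 := D.part_eq D dualF dualF_invol.injective (fun P hP hm => irreducible_dualF hP hm)
    (fun Q hQ hm => ⟨dualF Q, (irreducible_dualF hQ hm).1, (irreducible_dualF hQ hm).2.1, dualF_invol Q⟩) h1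
    (k.val + 1) (Nat.succ_ne_zero _)
  show dual (D.part (k.val + 1)).prod = (D.part (k.val + 1)).prod
  conv_rhs => rw [h2]
  have h3 : ∀ P ∈ D.part (k.val + 1), P.Monic ∧ P.coeff 0 ≠ 0 := fun P hP => by
    obtain ⟨i, -, rfl⟩ := Multiset.mem_map.1 hP
    exact ⟨D.monic i, D.coeff_zero_ne (det_ne_zero' g) i⟩
  generalize D.part (k.val + 1) = s at h3 ⊢
  induction s using Multiset.induction with
  | empty => simp [dual_one]
  | cons P s ih =>
    obtain ⟨hm, h0⟩ := h3 P (Multiset.mem_cons_self _ _)
    rw [Multiset.prod_cons, dual_mul, Multiset.map_cons, Multiset.prod_cons, dualF_eq hm h0,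
      ih fun Q hQ => h3 Q (Multiset.mem_cons_of_mem hQ)]

end Matrix

end Cfsg.Agent.Small.ClassNumberU
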