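import Mathlib
import Cfsg.Agent.Lib.Small.ClassNumber.Bound
import Cfsg.Agent.Lib.Small.ClassNumberU.Dual
import Cfsg.Agent.Lib.Small.ClassNumberU.Norm
import Cfsg.Agent.Lib.Small.UnitarySemisimpleCount

/-!
Counting self-dual parameters of given shape, with and without a prescribed determinant.
-/

set_option autoImplicit false
set_option linter.unusedSectionVars false
set_option linter.style.haveILetI false

namespace Cfsg.Agent.Small.ClassNumberU

open Polynomial Cfsg.Agent.Small.ClassNumber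

universe u

/-- the weight of one degree -/
def wgt (q d : ℕ) : ℕ := if d = 0 then 1 else (q + 1) * q ^ (d - 1)

/-- the common exponent of a shape, inside `q + 1` -/
noncomputable def hsh (q : ℕ) {M : ℕ} (d : Fin M → ℕ) : ℕ :=
  Nat.gcd (q + 1) ((Finset.univ.filter fun k => d k ≠ 0).gcd fun k : Fin M => k.val + 1)

/-- the possible shapes -/
def shapes (M n : ℕ) : Finset (Fin M → ℕ) :=
  (Fintype.piFinset fun _ : Fin M => Finset.range (n + 1)).filter fun d => ∑ k, (k.val + 1) * d k = n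

theorem mem_shapes {M n : ℕ} {d : Fin M → ℕ} : d ∈ shapes M n ↔ ∑ k, (k.val + 1) * d k = n := by
  simp only [shapes, Finset.mem_filter, Fintype.mem_piFinset, Finset.mem_range, and_iff_right_iff_imp]
  intro h k
  have h1 : (k.val + 1) * d k ≤ ∑ j, (j.val + 1) * d j :=
    Finset.single_le_sum (f := fun j : Fin M => (j.val + 1) * d j) (fun _ _ => Nat.zero_le _) (Finset.mem_univ k)
  rw [h] at h1
  nlinarith

variable {F : Type u} [Field F] [Fintype F] [StarRing F] {q : ℕ}

/-- Self-dual parameters of a given shape. -/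
def SeqD (F : Type u) [Field F] [StarRing F] {M : ℕ} (d : Fin M → ℕ) : Type u :=
  {G : Fin M → F[X] // ∀ k, (G k).Monic ∧ (G k).coeff 0 ≠ 0 ∧ dual (G k) = G k ∧ (G k).natDegree = d k}

/-- the norm-one group -/
noncomputable def muU (F : Type u) [Field F] (q : ℕ) : Subgroup Fˣ := (powMonoidHom (q + 1) : Fˣ →* Fˣ).ker

theorem card_muU (hF : Fintype.card F = q ^ 2) : Nat.card (muU F q) = q + 1 := by
  rw [muU, IsCyclic.card_powMonoidHom_ker, Nat.card_units, Nat.card_eq_fintype_card, hF]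
  exact Nat.gcd_eq_right (Dvd.intro _ (Hermitian.sq_sub_one q).symm)

theorem coeff_zero_norm {G : F[X]} (hm : G.Monic) (h0 : G.coeff 0 ≠ 0) (hd : dual G = G) :
    star (G.coeff 0) * G.coeff 0 = 1 := by
  have h := congrArg (fun P : F[X] => P.coeff 0) hd
  simp only [coeff_dual G (Nat.zero_le _), Nat.sub_zero, hm.coeff_natDegree, star_one, mul_one] at h
  conv_lhs => arg 2; rw [← h]
  exact mul_inv_cancel₀ (star_ne_zero.2 h0)

theorem mem_muU (hstar : ∀ x : F, star x = x ^ q) {x : Fˣ} (h : star (x : F) * x = 1) : x ∈ muU F q := by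
  rw [hstar, ← pow_succ] at h
  exact Units.ext (by rw [powMonoidHom_apply, Units.val_pow_eq_pow_val, h, Units.val_one])

/-- The middle coefficients form a set of size `q ^ (d - 1)` once the constant is fixed. -/
theorem exists_code (hstar : ∀ x : F, star x = x ^ q) (hF : Fintype.card F = q ^ 2) (c : F)
    (hc : star c * c = 1) : ∃ z : F, z ≠ 0 ∧ star z = star c * z := by
  obtain ⟨b, hb⟩ := Hermitian.exists_star_ne hstar hF
  obtain ⟨z, hz⟩ := hilbert90 (starRingEnd F) (fun x => star_star x) (w := b)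
    (sub_ne_zero.2 (Ne.symm hb)).isUnit (u := star c) (by rw [starRingEnd_apply, star_star, hc])
  refine ⟨star (z : F), star_ne_zero.2 z.ne_zero, ?_⟩
  rw [star_star]
  exact hz.symm

/-- the code of a self-dual polynomial of positive degree -/
theorem card_selfDual_le (hstar : ∀ x : F, star x = x ^ q) (hF : Fintype.card F = q ^ 2) {M : ℕ} (d : Fin M → ℕ) :
    ∃ f : SeqD F d → ∀ k : {k : Fin M // d k ≠ 0},
        muU F q × {b : Fin (d k.1 - 1) → F // ∀ i, star (b i) = (-1) ^ 0 * b i.rev},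
      Function.Injective f ∧ ∀ G k, (((f G k).1 : Fˣ) : F) = (G.1 k.1).coeff 0 := by
  classical
  have hz : ∀ c : muU F q, ∃ z : F, z ≠ 0 ∧ star z = star ((c : Fˣ) : F) * z := fun c => by
    refine exists_code hstar hF _ ?_
    have := congrArg Units.val (MonoidHom.mem_ker.1 c.2)
    rw [powMonoidHom_apply, Units.val_pow_eq_pow_val, Units.val_one, pow_succ, ← hstar] at this
    exact this
  choose z hz0 hz using hz
  let cst : SeqD F d → {k : Fin M // d k ≠ 0} → muU F q := fun G k =>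
    ⟨Units.mk0 _ (G.2 k.1).2.1, mem_muU hstar (coeff_zero_norm (G.2 k.1).1 (G.2 k.1).2.1 (G.2 k.1).2.2.1)⟩
  refine ⟨fun G k => (cst G k, ⟨fun i => (z (cst G k))⁻¹ * (G.1 k.1).coeff (i.val + 1), fun i => ?_⟩), ?_, fun G k => rfl⟩
  · obtain ⟨hm, h0, hd, hdeg⟩ := G.2 k.1
    have hi := i.isLt
    have h := congrArg (fun P : F[X] => P.coeff (i.rev.val + 1)) hd
    simp only [coeff_dual _ (show i.rev.val + 1 ≤ (G.1 k.1).natDegree by rw [hdeg, Fin.val_rev]; omega)] at h
    rw [show (G.1 k.1).natDegree - (i.rev.val + 1) = i.val + 1 by rw [hdeg, Fin.val_rev]; omega] at h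
    rw [pow_zero, one_mul, star_mul', star_inv₀, hz]
    show _ = (z (cst G k))⁻¹ * (G.1 k.1).coeff (i.rev.val + 1)
    rw [← h]
    show (star ((G.1 k.1).coeff 0) * z (cst G k))⁻¹ * _ = _
    rw [mul_inv]
    ring
  · intro G H h
    refine Subtype.ext (funext fun k => ?_)
    obtain ⟨hm, h0, -, hdeg⟩ := G.2 k
    obtain ⟨hm', h0', -, hdeg'⟩ := H.2 k
    by_cases hk : d k = 0
    · rw [hm.natDegree_eq_zero.1 (hdeg.trans hk), hm'.natDegree_eq_zero.1 (hdeg'.trans hk)]
    have hpair := congrFun h ⟨k, hk⟩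
    have hc : cst G ⟨k, hk⟩ = cst H ⟨k, hk⟩ := congrArg Prod.fst hpair
    have hb := congrArg (fun x => x.2.1) hpair
    have hc' : (G.1 k).coeff 0 = (H.1 k).coeff 0 := congrArg (fun x : muU F q => ((x : Fˣ) : F)) hc
    refine Polynomial.ext fun i => ?_
    rcases Nat.eq_zero_or_pos i with rfl | hi
    · exact hc'
    rcases lt_trichotomy i (d k) with hlt | rfl | hgt
    · have h1 := congrFun hb ⟨i - 1, by show i - 1 < d k - 1; omega⟩
      simp only [hc, show i - 1 + 1 = i by omega] at h1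
      exact mul_left_cancel₀ (inv_ne_zero (hz0 _)) h1
    · conv_lhs => rw [← hdeg, hm.coeff_natDegree]
      rw [← hdeg', hm'.coeff_natDegree]
    · rw [coeff_eq_zero_of_natDegree_lt (by omega), coeff_eq_zero_of_natDegree_lt (by omega)]

instance finite_seqD {M : ℕ} (d : Fin M → ℕ) : Finite (SeqD F d) := by
  refine Finite.of_injective (fun G => fun (k : Fin M) (i : Fin (d k + 1)) => (G.1 k).coeff i) ?_
  intro G H h
  refine Subtype.ext (funext fun k => Polynomial.ext fun i => ?_)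
  by_cases hi : i ≤ d k
  · exact congrFun (congrFun h k) ⟨i, by omega⟩
  · rw [coeff_eq_zero_of_natDegree_lt (by rw [(G.2 k).2.2.2]; omega),
      coeff_eq_zero_of_natDegree_lt (by rw [(H.2 k).2.2.2]; omega)]

theorem prod_wgt (q : ℕ) {M : ℕ} (d : Fin M → ℕ) :
    ∏ k : {k : Fin M // d k ≠ 0}, ((q + 1) * q ^ (d k.1 - 1)) = ∏ k, wgt q (d k) := by
  rw [← Finset.prod_filter_of_ne (p := fun k => d k ≠ 0) (fun k _ hk h => hk (by rw [wgt, if_pos h])),
    Finset.prod_subtype (p := fun k => d k ≠ 0) (Finset.univ.filter fun k => d k ≠ 0) (fun k => by simp) fun k => wgt q (d k)]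
  exact Finset.prod_congr rfl fun k _ => by rw [wgt, if_neg k.2]

/-- The parameters of a shape. -/
theorem card_seqD (hstar : ∀ x : F, star x = x ^ q) (hF : Fintype.card F = q ^ 2) {M : ℕ} (d : Fin M → ℕ) :
    Nat.card (SeqD F d) ≤ ∏ k, wgt q (d k) := by
  obtain ⟨f, hf, -⟩ := card_selfDual_le hstar hF d
  refine (Nat.card_le_card_of_injective f hf).trans (le_of_eq ?_)
  rw [Nat.card_pi, ← prod_wgt]
  exact Finset.prod_congr rfl fun k _ => by
    rw [Nat.card_prod, card_muU hF, UnitarySemisimpleCount.card_fixed hstar hF]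

/-- Powers of order in a set contain those of their common divisor. -/
theorem pow_hsh_mem (hF : Fintype.card F = q ^ 2) {M : ℕ} (d : Fin M → ℕ) (K : Subgroup (muU F q))
    (h : ∀ k : Fin M, d k ≠ 0 → ∀ μ : muU F q, μ ^ (k.val + 1) ∈ K) (μ : muU F q) : μ ^ hsh q d ∈ K := by
  classical
  have hg : ∀ a b : ℕ, (∀ μ : muU F q, μ ^ a ∈ K) → (∀ μ : muU F q, μ ^ b ∈ K) →
      ∀ μ : muU F q, μ ^ Nat.gcd a b ∈ K := by
    intro a b ha hb μ
    rw [← zpow_natCast, Nat.gcd_eq_gcd_ab, _root_.zpow_add, _root_.zpow_mul, _root_.zpow_mul, zpow_natCast, zpow_natCast]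
    exact K.mul_mem (K.zpow_mem (ha μ) _) (K.zpow_mem (hb μ) _)
  refine hg _ _ (fun μ => ?_) ?_ μ
  · rw [← card_muU hF, pow_card_eq_one']
    exact K.one_mem
  · refine Finset.induction_on' (motive := fun s => ∀ μ : muU F q, μ ^ s.gcd (fun k : Fin M => k.val + 1) ∈ K)
      (Finset.univ.filter fun k => d k ≠ 0) (fun μ => by simp [K.one_mem]) ?_
    intro a s ha _ _ ih μ
    rw [Finset.gcd_insert]
    exact hg _ _ (h a (Finset.mem_filter.1 ha).2) ih μ

theorem card_pow_range (hF : Fintype.card F = q ^ 2) {h : ℕ} (hh : h ∣ q + 1) :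
    h * Nat.card (powMonoidHom h : muU F q →* muU F q).range = q + 1 := by
  rw [IsCyclic.card_powMonoidHom_range, card_muU hF, Nat.gcd_eq_right hh, Nat.mul_div_cancel' hh]

/-- The parameters of a shape with prescribed determinant. -/
theorem card_seqD_pdata (hstar : ∀ x : F, star x = x ^ q) (hF : Fintype.card F = q ^ 2) {M : ℕ}
    (d : Fin M → ℕ) (t : F) :
    (q + 1) * Nat.card {G : SeqD F d // pdata G.1 = t} ≤ (∏ k, wgt q (d k)) * hsh q d := by
  classical
  obtain ⟨f, hf, hfc⟩ := card_selfDual_le hstar hF d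
  let φ : ({k : Fin M // d k ≠ 0} → muU F q) →* muU F q :=
    { toFun := fun l => ∏ k, l k ^ (k.1.val + 1)
      map_one' := by simp
      map_mul' := fun a b => by simp [mul_pow, Finset.prod_mul_distrib] }
  have hp : ∀ G : SeqD F d, ((φ (fun k => (f G k).1) : Fˣ) : F) = pdata G.1 := fun G => by
    rw [pdata]
    show (((∏ k : {k : Fin M // d k ≠ 0}, (f G k).1 ^ (k.1.val + 1) : muU F q) : Fˣ) : F) = _
    rw [← Subgroup.coe_subtype, map_prod, Units.coe_prod,
      ← Finset.prod_filter_of_ne (p := fun k => d k ≠ 0) (f := fun k : Fin M => (G.1 k).coeff 0 ^ (k.val + 1))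
        fun k _ hk h => hk (by rw [(G.2 k).1.natDegree_eq_zero.1 ((G.2 k).2.2.2.trans h), coeff_one_zero, one_pow]),
      Finset.prod_subtype (p := fun k => d k ≠ 0) (Finset.univ.filter fun k => d k ≠ 0) (fun k => by simp) (fun k : Fin M => (G.1 k).coeff 0 ^ (k.val + 1))]
    exact Finset.prod_congr rfl fun k _ => by simp [hfc]
  let B := ∀ k : {k : Fin M // d k ≠ 0}, {b : Fin (d k.1 - 1) → F // ∀ i, star (b i) = (-1) ^ 0 * b i.rev}
  have h1 : Nat.card {G : SeqD F d // pdata G.1 = t} ≤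
      Nat.card {l : {k : Fin M // d k ≠ 0} → muU F q // ((φ l : Fˣ) : F) = t} * Nat.card B := by
    rw [← Nat.card_prod]
    refine Nat.card_le_card_of_injective
      (fun G => (⟨fun k => (f G.1 k).1, (hp G.1).trans G.2⟩, fun k => (f G.1 k).2)) fun G H hGH => ?_
    have ha := congrArg (fun x => x.1.1) hGH
    have hb := congrArg Prod.snd hGH
    exact Subtype.ext (hf (funext fun k => Prod.ext (congrFun ha k) (congrFun hb k)))
  have h2 : (q + 1) * Nat.card {l : {k : Fin M // d k ≠ 0} → muU F q // ((φ l : Fˣ) : F) = t} ≤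
      hsh q d * Nat.card ({k : Fin M // d k ≠ 0} → muU F q) := by
    rcases isEmpty_or_nonempty {l : {k : Fin M // d k ≠ 0} → muU F q // ((φ l : Fˣ) : F) = t} with he | ⟨⟨l₀, hl₀⟩⟩
    · rw [Nat.card_of_isEmpty, mul_zero]; exact Nat.zero_le _
    have hk : Nat.card {l : {k : Fin M // d k ≠ 0} → muU F q // ((φ l : Fˣ) : F) = t} = Nat.card φ.ker := by
      refine Nat.card_congr ((Equiv.mulLeft l₀⁻¹).subtypeEquiv fun l => ?_)
      rw [Equiv.coe_mulLeft, MonoidHom.mem_ker, map_mul, map_inv, inv_mul_eq_one, ← hl₀]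
      exact ⟨fun h => (Subtype.ext (Units.ext h)).symm, fun h => by rw [h]⟩
    have hr : (powMonoidHom (hsh q d) : muU F q →* muU F q).range ≤ φ.range := by
      rintro _ ⟨μ, rfl⟩
      refine pow_hsh_mem hF d φ.range (fun k hk ν => ⟨Pi.mulSingle ⟨k, hk⟩ ν, ?_⟩) μ
      show ∏ j : {k : Fin M // d k ≠ 0}, (Pi.mulSingle ⟨k, hk⟩ ν : _ → muU F q) j ^ (j.1.val + 1) = _
      rw [Finset.prod_eq_single ⟨k, hk⟩ (fun j _ hj => by rw [Pi.mulSingle_eq_of_ne hj, one_pow])
        (fun h => absurd (Finset.mem_univ _) h), Pi.mulSingle_eq_same]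
    have h4 := Subgroup.card_eq_card_quotient_mul_card_subgroup φ.ker
    rw [Nat.card_congr (QuotientGroup.quotientKerEquivRange φ).toEquiv] at h4
    rw [hk, ← card_pow_range hF (Nat.gcd_dvd_left (q + 1) _ : hsh q d ∣ q + 1), h4, mul_assoc]
    refine Nat.mul_le_mul_left _ ?_
    exact Nat.mul_le_mul_right _ (Subgroup.card_le_of_le hr)
  calc (q + 1) * Nat.card {G : SeqD F d // pdata G.1 = t}
      ≤ (q + 1) * Nat.card {l : {k : Fin M // d k ≠ 0} → muU F q // ((φ l : Fˣ) : F) = t} * Nat.card B := by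
        rw [mul_assoc]; exact Nat.mul_le_mul_left _ h1
    _ ≤ hsh q d * Nat.card ({k : Fin M // d k ≠ 0} → muU F q) * Nat.card B := Nat.mul_le_mul_right _ h2
    _ = _ := by
        rw [mul_assoc, mul_comm (hsh q d), ← prod_wgt, Nat.card_pi, Nat.card_pi, ← Finset.prod_mul_distrib]
        congr 1
        exact Finset.prod_congr rfl fun k _ => by rw [card_muU hF, UnitarySemisimpleCount.card_fixed hstar hF]

end Cfsg.Agent.Small.ClassNumberU
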