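import Mathlib
import Cfsg.Agent.Lib.Small.ClassNumberU.Dual

/-!
Isometries of non-degenerate hermitian spaces: polynomials in the isometry and their adjoints,
invariant non-degenerate cyclic subspaces.
-/

set_option autoImplicit false
set_option linter.unusedSectionVars false
set_option linter.style.haveILetI false

namespace Cfsg.Agent.Small.ClassNumberU

open Polynomial

universe u v

variable {F : Type u} [Field F] [Fintype F] [StarRing F]

/-- A non-degenerate hermitian space with an isometry. -/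
structure HSpace (F : Type u) [Field F] [StarRing F] (V : Type v) [AddCommGroup V] [Module F V] where
  /-- the form, semilinear in the first argument -/
  B : V →ₗ⋆[F] V →ₗ[F] F
  herm : ∀ x y, star (B x y) = B y x
  nondeg : ∀ x, (∀ y, B x y = 0) → x = 0
  /-- the isometry -/
  T : V ≃ₗ[F] V
  iso : ∀ x y, B (T x) (T y) = B x y

variable {V : Type v} [AddCommGroup V] [Module F V] [FiniteDimensional F V]

namespace HSpace

variable (H : HSpace F V)

/-- the isometry as an endomorphism -/
noncomputable def Te : Module.End F V := H.T.toLinearMap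

/-- its inverse -/
noncomputable def Ti : Module.End F V := H.T.symm.toLinearMap

theorem Te_Ti : H.Te * H.Ti = 1 := LinearMap.ext H.T.apply_symm_apply

theorem Ti_Te : H.Ti * H.Te = 1 := LinearMap.ext H.T.symm_apply_apply

theorem comm_Te_Ti : Commute H.Te H.Ti := H.Te_Ti.trans H.Ti_Te.symm

theorem smul_left (c : F) (x y : V) : H.B (c • x) y = star c * H.B x y := by
  rw [map_smulₛₗ, LinearMap.smul_apply, smul_eq_mul]
  rfl

theorem smul_right (c : F) (x y : V) : H.B x (c • y) = c * H.B x y := by rw [map_smul, smul_eq_mul]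

theorem swap_zero {x y : V} (h : H.B x y = 0) : H.B y x = 0 := by rw [← H.herm, h, star_zero]

theorem left_Te (x y : V) : H.B (H.Te x) y = H.B x (H.Ti y) := by
  conv_lhs => rw [← H.T.apply_symm_apply y]
  exact H.iso x _

/-- the adjoint of a polynomial in the isometry -/
theorem adjoint (f : F[X]) : ∀ x y, H.B (aeval H.Te f x) y = H.B x (aeval H.Ti (f.map (starRingEnd F)) y) := by
  induction f using Polynomial.induction_on' with
  | add p r hp hr =>
    intro x y
    simp only [Polynomial.map_add, map_add, LinearMap.add_apply, hp, hr]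
  | monomial i c =>
    have hpow : ∀ i x y, H.B ((H.Te ^ i) x) y = H.B x ((H.Ti ^ i) y) := fun i => by
      induction i with
      | zero => intro x y; rfl
      | succ i ih =>
        intro x y
        rw [pow_succ', Module.End.mul_apply, left_Te, ih, pow_succ, Module.End.mul_apply]
    intro x y
    rw [map_monomial, aeval_monomial, aeval_monomial, Module.End.mul_apply, Module.End.mul_apply,
      Module.algebraMap_end_apply, Module.algebraMap_end_apply, smul_left, smul_right, hpow]
    rfl

theorem comm_aeval_Ti (f : F[X]) (j : ℕ) : Commute (aeval H.Te f) (H.Ti ^ j) := by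
  induction f using Polynomial.induction_on' with
  | add p r hp hr => rw [map_add]; exact hp.add_left hr
  | monomial i c =>
    rw [aeval_monomial]
    exact (Algebra.commute_algebraMap_left c _).mul_left (H.comm_Te_Ti.pow_pow i j)

/-- the adjoint as a polynomial in the isometry -/
theorem adjoint_dual {f : F[X]} (hf0 : f.coeff 0 ≠ 0) (x y : V) :
    H.B (aeval H.Te f x) y =
      star (f.coeff 0) * H.B x (aeval H.Te (dual f) ((H.Ti ^ f.natDegree) y)) := by
  rw [adjoint, ← aeval_reflect (F := F) H.Te_Ti f.natDegree (f.map (starRingEnd F)) (map_natDegree f).le,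
    ← smul_right, ← LinearMap.smul_apply, ← Module.End.mul_apply]
  congr 2
  rw [dual, map_mul, aeval_C, Polynomial.reverse, map_natDegree, ← Algebra.smul_def, smul_smul,
    mul_inv_cancel₀ (star_ne_zero.2 hf0), one_smul]

theorem minpoly_coeff_zero : (minpoly F H.Te).coeff 0 ≠ 0 := by
  intro h
  obtain ⟨g, hg⟩ := X_dvd_iff.2 h
  have hint : IsIntegral F H.Te := Algebra.IsIntegral.isIntegral _
  have hg0 : g ≠ 0 := fun h0 => minpoly.ne_zero hint (by rw [hg, h0, mul_zero])
  have h1 := minpoly.aeval F H.Te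
  rw [hg, map_mul, aeval_X] at h1
  have h2 : aeval H.Te g = 0 := by
    have := congrArg (H.Ti * ·) h1
    simpa [← mul_assoc, H.Ti_Te] using this
  have h3 := natDegree_le_of_dvd (minpoly.dvd F _ h2) hg0
  rw [hg, natDegree_X_mul hg0] at h3
  omega

theorem dual_minpoly : dual (minpoly F H.Te) = minpoly F H.Te := by
  set m := minpoly F H.Te with hm
  have hint : IsIntegral F H.Te := Algebra.IsIntegral.isIntegral _
  obtain ⟨hdm, hdd, -⟩ := dual_spec (minpoly.monic hint) H.minpoly_coeff_zero
  have h0 : aeval H.Te (dual m) = 0 := by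
    refine LinearMap.ext fun z => H.nondeg _ fun x => H.swap_zero ?_
    have h := H.adjoint_dual H.minpoly_coeff_zero x ((H.Te ^ m.natDegree) z)
    rw [← hm, hm, minpoly.aeval, LinearMap.zero_apply, map_zero, LinearMap.zero_apply, ← hm, ← Module.End.mul_apply (aeval H.Te (dual m)),
      Module.End.mul_apply, ← Module.End.mul_apply (H.Ti ^ m.natDegree), ← (H.comm_Te_Ti.symm.mul_pow m.natDegree), H.Ti_Te, one_pow, Module.End.one_apply] at h
    exact (mul_eq_zero.1 h.symm).resolve_left (star_ne_zero.2 H.minpoly_coeff_zero)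
  rw [hm]
  rw [hm] at h0
  first
    | exact (eq_of_monic_of_dvd_of_natDegree_le (minpoly.monic hint) hdm (minpoly.dvd F _ h0) hdd.le).symm
    | exact eq_of_monic_of_dvd_of_natDegree_le (minpoly.monic hint) hdm (minpoly.dvd F _ h0) hdd.le

/-- the cyclic subspace -/
noncomputable def cyc (x : V) : Submodule F V :=
  LinearMap.range ((LinearMap.applyₗ x).comp (aeval H.Te : F[X] →ₐ[F] Module.End F V).toLinearMap)

theorem mem_cyc {x y : V} : y ∈ H.cyc x ↔ ∃ g : F[X], aeval H.Te g x = y := Iff.rfl

theorem cyc_invariant {x y : V} (hy : y ∈ H.cyc x) : H.T y ∈ H.cyc x := by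
  obtain ⟨g, rfl⟩ := H.mem_cyc.1 hy
  exact H.mem_cyc.2 ⟨X * g, by rw [map_mul, aeval_X]; rfl⟩

theorem aeval_mul_apply (a b : F[X]) (x : V) :
    aeval H.Te (a * b) x = aeval H.Te a (aeval H.Te b x) := by rw [map_mul, Module.End.mul_apply]

/-- Some vector is not orthogonal to its image under a non-zero endomorphism. -/
theorem exists_ne {S : Module.End F V} (hS : S ≠ 0) (hF : ∃ b : F, star b ≠ b) : ∃ x, H.B (S x) x ≠ 0 := by
  by_contra! h
  obtain ⟨b, hb⟩ := hF
  refine hS (LinearMap.ext fun x => H.nondeg _ fun y => ?_)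
  have key : ∀ u v, H.B (S u) v + H.B (S v) u = 0 := fun u v => by
    have := h (u + v)
    simp only [map_add, LinearMap.add_apply, h u, h v, zero_add, add_zero] at this
    rw [add_comm]
    exact this
  have h1 := key x y
  have h2 := key (b • x) y
  rw [map_smul, smul_left, smul_right] at h2
  have h3 : (star b - b) * H.B (S x) y = 0 := by linear_combination h2 - b * h1
  exact (mul_eq_zero.1 h3).resolve_left (sub_ne_zero.2 hb)

open _root_.Classical in
/-- The cyclic piece at an irreducible factor: it is non-degenerate, and it is killed by a power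
of the factor and its dual. -/
theorem exists_cyclic (hF : ∃ b : F, star b ≠ b) [Nontrivial V] :
    ∃ (P : F[X]) (e : ℕ) (x : V), Irreducible P ∧ P.Monic ∧ P.coeff 0 ≠ 0 ∧ 0 < e ∧ x ≠ 0 ∧
      (∀ y ∈ H.cyc x, (∀ z ∈ H.cyc x, H.B z y = 0) → y = 0) ∧
      aeval H.Te (if dual P = P then P ^ e else (P * dual P) ^ e) x = 0 ∧
      (if dual P = P then P ^ e else (P * dual P) ^ e) ∣ minpoly F H.Te := by
  classical
  set m := minpoly F H.Te with hm
  have hint : IsIntegral F H.Te := Algebra.IsIntegral.isIntegral _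
  have hmm : m.Monic := minpoly.monic hint
  obtain ⟨P, hPm, hP, hPd⟩ := exists_monic_irreducible_factor m (minpoly.not_isUnit F H.Te) |>.imp
    fun P h => (⟨h.1, h.2.1, h.2.2⟩ : P.Monic ∧ Irreducible P ∧ P ∣ m)
  have hP0 : P.coeff 0 ≠ 0 := fun h => H.minpoly_coeff_zero
    (by obtain ⟨c, hc⟩ := hPd; rw [← hm, hc, mul_coeff_zero, h, zero_mul])
  obtain ⟨e, R, hR, he⟩ : ∃ e R, ¬ P ∣ R ∧ m = P ^ e * R := by
    have hfin := FiniteMultiplicity.of_prime_left hP.prime hmm.ne_zero
    obtain ⟨R, h1, h2⟩ := hfin.exists_eq_pow_mul_and_not_dvd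
    exact ⟨_, R, h2, h1⟩
  have hepos : 0 < e := by
    by_contra h
    obtain rfl : e = 0 := by omega
    rw [pow_zero, one_mul] at he
    exact hR (he ▸ hPd)
  obtain ⟨hdm, hdd, hd0⟩ := dual_spec hPm hP0
  have hdP := dual_irreducible hP hPm hP0
  have hRm : R.Monic := (hPm.pow e).of_mul_monic_left (he ▸ hmm)
  have hR0 : R.coeff 0 ≠ 0 := fun h => H.minpoly_coeff_zero (by rw [← hm, he, mul_coeff_zero, h, mul_zero])
  have hpowdual : ∀ (G : F[X]) (j : ℕ), dual (G ^ j) = dual G ^ j := fun G j => by
    induction j with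
    | zero => rw [pow_zero, pow_zero, dual_one]
    | succ j ih => rw [pow_succ, pow_succ, dual_mul, ih]
  -- the self-dual part at `P`
  obtain ⟨Q, R', hQ, hmQ, hQR⟩ : ∃ Q R' : F[X], Q = (if dual P = P then P ^ e else (P * dual P) ^ e) ∧
      m = Q * R' ∧ IsCoprime Q R' := by
    by_cases hd : dual P = P
    · exact ⟨_, R, rfl, by rw [if_pos hd]; exact he,
        by rw [if_pos hd]; exact (hP.coprime_iff_not_dvd.2 hR).pow_left⟩
    · have hdRd : dual m = dual P ^ e * dual R := by rw [he, dual_mul, hpowdual]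
      rw [H.dual_minpoly, ← hm] at hdRd
      have hne : IsCoprime P (dual P) := hP.coprime_iff_not_dvd.2 fun h =>
        hd (eq_of_monic_of_associated hPm hdm (hP.associated_of_dvd hdP h)).symm
      have h1 : dual P ^ e ∣ R := (hne.symm.pow).dvd_of_dvd_mul_left (y := P ^ e) (by rw [← he]; exact ⟨dual R, hdRd⟩)
      obtain ⟨R', rfl⟩ := h1
      have hPR' : ¬ P ∣ R' := fun h => hR (h.mul_left _)
      have hdR' : ¬ dual P ∣ R' := fun h => by
        obtain ⟨c, rfl⟩ := h
        have h3 : P ^ e * (dual P ^ e * (dual P * c)) = dual P ^ e * (P ^ e * (P * dual c)) := by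
          rw [← he, hdRd, dual_mul, dual_mul, hpowdual, dual_dual hPm hP0]
        have h4 : dual P * c = P * dual c := by
          refine mul_left_cancel₀ (mul_ne_zero (pow_ne_zero e hP.ne_zero) (pow_ne_zero e hdP.ne_zero)) ?_
          linear_combination h3
        exact hPR' ⟨dual c, h4⟩
      refine ⟨_, R', rfl, ?_, ?_⟩
      · rw [if_neg hd, mul_pow, he, mul_assoc]
      · rw [if_neg hd]
        exact ((hP.coprime_iff_not_dvd.2 hPR').mul_left (hdP.coprime_iff_not_dvd.2 hdR')).pow_left
  have hQm : Q.Monic := by rw [hQ]; split_ifs; exacts [hPm.pow _, (hPm.mul hdm).pow _]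
  have hPQ : P ∣ Q := by
    rw [hQ]; split_ifs
    exacts [dvd_pow_self _ hepos.ne', (dvd_mul_right P _).trans (dvd_pow_self _ hepos.ne')]
  have hQdual : dual Q = Q := by
    rw [hQ]; split_ifs with hd
    · rw [hpowdual, hd]
    · rw [hpowdual, dual_mul, dual_dual hPm hP0, mul_comm]
  have hQ0 : Q.coeff 0 ≠ 0 := fun h => H.minpoly_coeff_zero (by rw [← hm, hmQ, mul_coeff_zero, h, zero_mul])
  have hR'dual : dual R' = R' := by
    have := H.dual_minpoly
    rw [← hm, hmQ, dual_mul, hQdual] at this
    exact mul_left_cancel₀ hQm.ne_zero this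
  obtain ⟨QP, hQP⟩ := hPQ
  have hQPm : QP.Monic := hPm.of_mul_monic_left (hQP ▸ hQm)
  have hR'0 : R' ≠ 0 := fun h => hmm.ne_zero (by rw [hmQ, h, mul_zero])
  have hS : aeval H.Te (QP * R') ≠ 0 := fun h0 => by
    have h1 := natDegree_le_of_dvd (minpoly.dvd F _ h0)
      (mul_ne_zero hQPm.ne_zero hR'0)
    rw [← hm, hmQ, hQP, mul_assoc, natDegree_mul hP.ne_zero (mul_ne_zero hQPm.ne_zero hR'0)] at h1
    have := hP.natDegree_pos
    omega
  obtain ⟨y, hy⟩ := H.exists_ne hS hF
  obtain ⟨a, b, hab⟩ := hQR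
  set x := aeval H.Te (b * R') y with hx
  have hxQ : aeval H.Te Q x = 0 := by
    rw [hx, ← aeval_mul_apply, show Q * (b * R') = b * (Q * R') by ring, ← hmQ, map_mul, hm, minpoly.aeval,
      mul_zero, LinearMap.zero_apply]
  have hSy : aeval H.Te (QP * R') x = aeval H.Te (QP * R') y := by
    have hb : b * R' = 1 - a * Q := by linear_combination hab
    rw [hx, hb, ← aeval_mul_apply, show QP * R' * (1 - a * Q) = QP * R' - (QP * a) * (Q * R') by ring, ← hmQ,
      map_sub, map_mul (aeval H.Te) (QP * a) m, hm, minpoly.aeval, mul_zero,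
      sub_zero]
  have hSx : H.B (aeval H.Te (QP * R') x) x ≠ 0 := by
    rw [hSy, hx]
    have hb : b * R' = 1 - a * Q := by linear_combination hab
    rw [hb, map_sub, map_one, LinearMap.sub_apply, Module.End.one_apply, map_sub, mul_comm a Q, aeval_mul_apply (x := y) (a := Q)]
    have h1 : H.B (aeval H.Te (QP * R') y) (aeval H.Te Q (aeval H.Te a y)) = 0 := by
      refine H.swap_zero ?_
      rw [H.adjoint_dual hQ0, hQdual, ← Module.End.mul_apply (aeval H.Te Q),
        (H.comm_aeval_Ti Q _).eq, Module.End.mul_apply, ← aeval_mul_apply,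
        show Q * (QP * R') = QP * (Q * R') by ring, ← hmQ, map_mul, hm, minpoly.aeval, mul_zero,
        LinearMap.zero_apply, map_zero, map_zero, mul_zero]
    rwa [h1, sub_zero]
  refine ⟨P, e, x, hP, hPm, hP0, hepos, fun h0 => hSx (by rw [h0]; simp),
    ?_, hQ ▸ hxQ, hQ ▸ ⟨R', hmQ⟩⟩
  intro w hw horth
  by_contra hw0
  obtain ⟨g, rfl⟩ := H.mem_cyc.1 hw
  -- the polynomials sending `x` into the radical
  let I : Ideal F[X] :=
    { carrier := {f | ∀ z ∈ H.cyc x, H.B z (aeval H.Te f x) = 0}
      add_mem' := fun {f f'} hf hf' z hz => by rw [map_add, LinearMap.add_apply, map_add, hf z hz, hf' z hz, add_zero]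
      zero_mem' := fun z _ => by rw [map_zero, LinearMap.zero_apply, map_zero]
      smul_mem' := fun c f hf z hz => by
        obtain ⟨k, rfl⟩ := H.mem_cyc.1 hz
        rw [smul_eq_mul, aeval_mul_apply]
        refine H.swap_zero ?_
        rw [H.adjoint]
        have hmem : aeval H.Ti (c.map (starRingEnd F)) (aeval H.Te k x) ∈ H.cyc x := by
          have hTi : ∀ v ∈ H.cyc x, H.Ti v ∈ H.cyc x := fun v hv => by
            have heq : (H.cyc x).map H.T.toLinearMap = H.cyc x :=
              Submodule.eq_of_le_of_finrank_le (by rintro _ ⟨v', hv', rfl⟩; exact H.cyc_invariant hv')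
                (LinearEquiv.finrank_map_eq _ _).ge
            rw [← heq] at hv
            obtain ⟨v', hv', rfl⟩ := hv
            show H.T.symm (H.T v') ∈ _
            rwa [LinearEquiv.symm_apply_apply]
          generalize aeval H.Te k x = v at hz ⊢
          generalize c.map (starRingEnd F) = c'
          induction c' using Polynomial.induction_on generalizing v with
          | C a => rw [aeval_C, Module.algebraMap_end_apply]; exact Submodule.smul_mem _ _ hz
          | add p r hp hr => rw [map_add, LinearMap.add_apply]; exact add_mem (hp v hz) (hr v hz)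
          | monomial i a ih => rw [pow_succ, ← mul_assoc, map_mul, aeval_X, Module.End.mul_apply]; exact ih _ (hTi v hz)
        exact H.swap_zero (hf _ hmem) }
  have hIx : ∀ f, f ∈ I ↔ ∀ z ∈ H.cyc x, H.B z (aeval H.Te f x) = 0 := fun f => Iff.rfl
  obtain ⟨J, hJ⟩ := (IsPrincipalIdealRing.principal I).principal
  have hJI : ∀ f, f ∈ I ↔ J ∣ f := fun f => by rw [hJ, Submodule.span, ← Submodule.span, Ideal.mem_span_singleton]
  have hgI : g ∈ I := horth
  have hQI : Q ∈ I := fun z _ => by rw [hxQ, map_zero]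
  -- the annihilator of `x` inside
  obtain ⟨c, hc⟩ := (hJI Q).1 hQI
  have hxS : QP ∉ I := fun h => hSx (H.swap_zero (by
    rw [mul_comm QP R']
    exact (hIx _).1 (I.mul_mem_left R' h) x (H.mem_cyc.2 ⟨1, by rw [map_one]; rfl⟩)))
  have hcu : ¬ IsUnit c := fun hu => hw0 (by
    obtain ⟨k, hk⟩ := ((hJI g).1 hgI)
    obtain ⟨u, rfl⟩ := hu
    rw [hk, show J * k = k * (↑u⁻¹ : F[X]) * (J * ↑u) by rw [show k * ↑u⁻¹ * (J * ↑u) = J * k * (↑u * ↑u⁻¹) by ring, u.mul_inv, mul_one],
      ← hc, aeval_mul_apply, hxQ, map_zero])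
  obtain ⟨P₁, hP₁m, hP₁, hP₁c⟩ := exists_monic_irreducible_factor c hcu |>.imp
    fun P₁ h => (⟨h.1, h.2.1, h.2.2⟩ : P₁.Monic ∧ Irreducible P₁ ∧ P₁ ∣ c)
  obtain ⟨c', rfl⟩ := hP₁c
  have hP₁Q : P₁ ∣ P ∨ P₁ ∣ dual P := by
    have : P₁ ∣ Q := hc ▸ (dvd_mul_right P₁ c').mul_left J
    rw [hQ] at this
    split_ifs at this
    · exact Or.inl (hP₁.prime.dvd_of_dvd_pow this)
    · exact hP₁.prime.dvd_mul.1 (hP₁.prime.dvd_of_dvd_pow this)
  rcases hP₁Q with h | h
  · obtain rfl := eq_of_monic_of_associated hP₁m hPm (hP₁.associated_of_dvd hP h)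
    exact hxS ((hJI _).2 ⟨c', mul_left_cancel₀ hP.ne_zero (by rw [← hQP, hc]; ring)⟩)
  · obtain rfl := eq_of_monic_of_associated hP₁m hdm (hP₁.associated_of_dvd hdP h)
    have hQP' : dual QP = J * c' := mul_left_cancel₀ hdP.ne_zero (by
      rw [← dual_mul, ← hQP, hQdual, hc]; ring)
    have hI : dual (QP * R') ∈ I := by
      rw [dual_mul, hR'dual, hQP']
      exact (hJI _).2 ((dvd_mul_right J c').mul_right R')
    have h0 : (QP * R').coeff 0 ≠ 0 := by
      intro h1
      rw [mul_coeff_zero] at h1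
      exact H.minpoly_coeff_zero (by rw [← hm, hmQ, hQP, mul_assoc, mul_coeff_zero, mul_coeff_zero, h1, mul_zero])
    refine hSx ?_
    rw [H.adjoint_dual h0, ← Module.End.mul_apply (aeval H.Te _),
      (H.comm_aeval_Ti _ _).eq, Module.End.mul_apply]
    have hall : ∀ j : ℕ, H.B x ((H.Ti ^ j) (aeval H.Te (dual (QP * R')) x)) = 0 := fun j => by
      have hh : ∀ u v, H.B u ((H.Ti ^ j) v) = H.B ((H.Te ^ j) u) v := fun u v => by
        have := H.adjoint (X ^ j) u v
        simp only [map_pow, aeval_X, Polynomial.map_pow, map_X] at this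
        exact this.symm
      rw [hh]
      exact (hIx _).1 hI _ (H.mem_cyc.2 ⟨X ^ j, by rw [map_pow, aeval_X]⟩)
    rw [hall, mul_zero]

end HSpace

end Cfsg.Agent.Small.ClassNumberU
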