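import Mathlib
import Cfsg.Agent.Lib.Small.ClassNumberU.Count

/-!
Numerical bounds for the weighted sums over shapes.
-/

set_option autoImplicit false
set_option linter.unusedSectionVars false
set_option linter.style.haveILetI false

namespace Cfsg.Agent.Small.ClassNumberU

/-- The weighted number of shapes. -/
def shapeSum (q M m : ℕ) : ℕ := ∑ d ∈ shapes M m, ∏ k, wgt q (d k)

theorem shapeSum_one_le {q m : ℕ} (hq : 1 ≤ q) : (shapeSum q 1 m : ℚ) ≤ (1 + 1 / (q : ℚ)) * (q : ℚ) ^ m := by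
  have hsub : shapes 1 m = {fun _ => m} := by
    ext d
    rw [mem_shapes, Finset.mem_singleton, Fin.sum_univ_one]
    constructor
    · intro h
      funext k
      rw [Fin.fin_one_eq_zero k]
      simpa using h
    · rintro rfl
      simp
  have h : shapeSum q 1 m = wgt q m := by
    rw [shapeSum, hsub, Finset.sum_singleton, Fin.prod_univ_one]
  have hq0 : (0 : ℚ) < q := by exact_mod_cast hq
  rw [h, wgt]
  rcases Nat.eq_zero_or_pos m with rfl | hm
  · simp [hq0.le]
  · obtain ⟨j, rfl⟩ : ∃ j, m = j + 1 := ⟨m - 1, by omega⟩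
    rw [if_neg (by omega), Nat.add_sub_cancel]
    push_cast
    rw [pow_succ]
    apply le_of_eq
    field_simp

theorem shapeSum_succ_le (q M m : ℕ) :
    shapeSum q (M + 1) m ≤ ∑ a ∈ Finset.range (m / (M + 1) + 1), wgt q a * shapeSum q M (m - (M + 1) * a) := by
  have hmem : ∀ d ∈ shapes (M + 1) m, d (Fin.last M) ∈ Finset.range (m / (M + 1) + 1) := by
    intro d hd
    rw [mem_shapes, Fin.sum_univ_castSucc] at hd
    rw [Finset.mem_range, Nat.lt_succ_iff, Nat.le_div_iff_mul_le (Nat.succ_pos M), mul_comm]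
    simp only [Fin.val_last, Nat.succ_eq_add_one] at hd ⊢
    omega
  rw [shapeSum, ← Finset.sum_fiberwise_of_maps_to hmem]
  refine Finset.sum_le_sum fun a _ => ?_
  rw [shapeSum, Finset.mul_sum]
  refine le_of_eq_of_le ?_ (Finset.sum_le_sum_of_subset
    (s := ((shapes (M + 1) m).filter fun d => d (Fin.last M) = a).image fun d k => d k.castSucc) ?_)
  · rw [Finset.sum_image]
    · refine Finset.sum_congr rfl fun d hd => ?_
      rw [Fin.prod_univ_castSucc, (Finset.mem_filter.1 hd).2, mul_comm]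
    · intro d hd d' hd' h
      funext k
      induction k using Fin.lastCases with
      | last => rw [(Finset.mem_filter.1 hd).2, (Finset.mem_filter.1 hd').2]
      | cast k => exact congrFun h k
  · intro e he
    obtain ⟨d, hd, rfl⟩ := Finset.mem_image.1 he
    obtain ⟨hd', rfl⟩ := Finset.mem_filter.1 hd
    clear hd
    rename' hd' => hd
    rw [mem_shapes, Fin.sum_univ_castSucc] at hd
    rw [mem_shapes]
    simp only [Fin.val_last, Fin.val_castSucc] at hd ⊢
    omega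

/-- The factor of one part size. -/
def fac (q : ℚ) (M : ℕ) : ℚ := (1 + (q ^ (M + 1))⁻¹) / (1 - (q ^ M)⁻¹)

theorem inv_pow_lt_one {q : ℚ} (hq : 2 ≤ q) (M : ℕ) : (q ^ (M + 1))⁻¹ < 1 :=
  inv_lt_one_of_one_lt₀ (one_lt_pow₀ (by linarith) (Nat.succ_ne_zero M))

theorem fac_nonneg {q : ℚ} (hq : 2 ≤ q) (M : ℕ) : 0 ≤ fac q (M + 1) := by
  have := inv_pow_lt_one hq M
  unfold fac
  apply div_nonneg
  · have : 0 ≤ (q ^ (M + 1 + 1))⁻¹ := by positivity
    linarith
  · linarith

theorem fac_anti {q₀ q : ℚ} (hq₀ : 2 ≤ q₀) (hq : q₀ ≤ q) (M : ℕ) : fac q (M + 1) ≤ fac q₀ (M + 1) := by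
  have h := inv_pow_lt_one hq₀ M
  have hpow : ∀ N : ℕ, (q ^ N)⁻¹ ≤ (q₀ ^ N)⁻¹ := fun N =>
    inv_anti₀ (by positivity) (pow_le_pow_left₀ (by linarith) hq N)
  have h0 : 0 ≤ (q₀ ^ (M + 1 + 1))⁻¹ := by positivity
  unfold fac
  apply div_le_div₀ (by linarith) (by linarith [hpow (M + 1 + 1)]) (by linarith) (by linarith [hpow (M + 1)])

theorem shapeSum_le {q : ℕ} (hq : 2 ≤ q) : ∀ n m : ℕ,
    (shapeSum q (n + 1) m : ℚ) ≤
      (1 + 1 / (q : ℚ)) * (∏ M ∈ Finset.range n, fac q (M + 1)) * (q : ℚ) ^ m := by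
  have hq2 : (2 : ℚ) ≤ q := by exact_mod_cast hq
  intro n
  induction n with
  | zero => intro m; rw [Finset.range_zero, Finset.prod_empty, mul_one]; exact shapeSum_one_le (by omega)
  | succ n ih =>
    intro m
    set c := (1 + 1 / (q : ℚ)) * ∏ M ∈ Finset.range n, fac q (M + 1) with hc
    have hc0 : 0 ≤ c := mul_nonneg (by positivity) (Finset.prod_nonneg fun M _ => fac_nonneg hq2 M)
    rw [Finset.prod_range_succ, ← mul_assoc (1 + 1 / (q : ℚ)), ← hc]
    set r := ((q : ℚ) ^ (n + 1))⁻¹ with hr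
    have hr0 : 0 ≤ r := by positivity
    have hr1 : r < 1 := inv_pow_lt_one hq2 n
    have hw : ∀ a : ℕ, a ≤ m / (n + 2) → (wgt q a : ℚ) * (q : ℚ) ^ (m - (n + 2) * a) ≤
        (q : ℚ) ^ m * (if a = 0 then 1 else (1 + 1 / (q : ℚ)) * r ^ a) := by
      intro a ha
      rcases Nat.eq_zero_or_pos a with rfl | ha0
      · simp [wgt]
      obtain ⟨j, rfl⟩ : ∃ j, a = j + 1 := ⟨a - 1, by omega⟩
      have hle : (n + 2) * (j + 1) ≤ m :=
        le_trans (Nat.mul_le_mul_left _ ha) (Nat.mul_div_le m (n + 2))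
      rw [wgt, if_neg (Nat.succ_ne_zero j), if_neg (Nat.succ_ne_zero j), Nat.add_sub_cancel]
      obtain ⟨e, rfl⟩ : ∃ e, m = e + (n + 2) * (j + 1) := ⟨_, (Nat.sub_add_cancel hle).symm⟩
      rw [Nat.add_sub_cancel]
      push_cast
      apply le_of_eq
      rw [hr, inv_pow, ← pow_mul, show e + (n + 2) * (j + 1) = e + j + 1 + (n + 1) * (j + 1) by ring,
        pow_add (q : ℚ) (e + j + 1), pow_succ, pow_add (q : ℚ) e j]
      field_simp
    calc (shapeSum q (n + 1 + 1) m : ℚ)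
        ≤ ((∑ a ∈ Finset.range (m / (n + 2) + 1), wgt q a * shapeSum q (n + 1) (m - (n + 2) * a) : ℕ) : ℚ) :=
          Nat.cast_le.2 (shapeSum_succ_le q (n + 1) m)
      _ ≤ ∑ a ∈ Finset.range (m / (n + 2) + 1), c * ((wgt q a : ℚ) * (q : ℚ) ^ (m - (n + 2) * a)) := by
          push_cast
          refine Finset.sum_le_sum fun a _ => ?_
          rw [mul_left_comm c]
          exact mul_le_mul_of_nonneg_left (ih _) (Nat.cast_nonneg _)
      _ ≤ ∑ a ∈ Finset.range (m / (n + 2) + 1),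
          c * ((q : ℚ) ^ m * (if a = 0 then 1 else (1 + 1 / (q : ℚ)) * r ^ a)) :=
          Finset.sum_le_sum fun a ha => mul_le_mul_of_nonneg_left (hw a (by
            rw [Finset.mem_range] at ha; omega)) hc0
      _ ≤ _ := by
          rw [← Finset.mul_sum, ← Finset.mul_sum, mul_comm ((q : ℚ) ^ m), ← mul_assoc]
          refine mul_le_mul_of_nonneg_right (mul_le_mul_of_nonneg_left ?_ hc0) (by positivity)
          rw [Finset.sum_range_succ', if_pos rfl, Finset.sum_congr rfl fun a _ => if_neg (Nat.succ_ne_zero a),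
            ← Finset.mul_sum, Finset.sum_congr rfl fun a _ => pow_succ' r a, ← Finset.mul_sum]
          have hg : ∀ N : ℕ, (1 - r) * ∑ a ∈ Finset.range N, r ^ a ≤ 1 := fun N => by
            rw [mul_neg_geom_sum]
            have : 0 ≤ r ^ N := by positivity
            linarith
          have hfac : fac q (n + 1) = (1 + r / q) / (1 - r) := by
            rw [fac, hr]
            congr 1
            rw [pow_succ (q : ℚ) (n + 1), _root_.mul_inv, div_eq_mul_inv]
          rw [hfac, le_div_iff₀ (by linarith)]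
          have h1 := mul_le_mul_of_nonneg_left (hg (m / (n + 2)))
            (show (0 : ℚ) ≤ (1 + 1 / (q : ℚ)) * r by positivity)
          have h2 : r / (q : ℚ) = r * (1 / q) := by ring
          nlinarith

theorem prod_fac_le {q₀ q : ℚ} (hq₀ : 2 ≤ q₀) (hq : q₀ ≤ q) {t L : ℚ} {K : ℕ} (ht : 0 ≤ t) (hL : 0 ≤ L)
    (hK : ∏ M ∈ Finset.range K, fac q₀ (M + 1) ≤ L * (1 - t * (q₀ ^ K)⁻¹))
    (hstep : ∀ n, K ≤ n → fac q₀ (n + 1) ≤ 1 + t * (q₀ - 1) * (q₀ ^ (n + 1))⁻¹) (n : ℕ) :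
    ∏ M ∈ Finset.range n, fac q (M + 1) ≤ L := by
  have hnn : ∀ M, 0 ≤ fac q₀ (M + 1) := fac_nonneg hq₀
  have hge : ∀ M, 1 ≤ fac q₀ (M + 1) := fun M => by
    have := inv_pow_lt_one hq₀ M
    have : 0 ≤ (q₀ ^ (M + 1 + 1))⁻¹ := by positivity
    have : 0 ≤ (q₀ ^ (M + 1))⁻¹ := by positivity
    rw [fac, le_div_iff₀ (by linarith)]
    linarith
  refine (Finset.prod_le_prod (fun M _ => fac_nonneg (hq₀.trans hq) M) fun M _ => fac_anti hq₀ hq M).trans ?_
  have main : ∀ j, ∏ M ∈ Finset.range (K + j), fac q₀ (M + 1) ≤ L * (1 - t * (q₀ ^ (K + j))⁻¹) := by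
    intro j
    induction j with
    | zero => exact hK
    | succ j ih =>
      rw [← add_assoc, Finset.prod_range_succ]
      have hs := hstep (K + j) (Nat.le_add_right _ _)
      refine (mul_le_mul ih hs (hnn _) ((Finset.prod_nonneg fun M _ => hnn M).trans ih)).trans ?_
      rw [mul_assoc]
      refine mul_le_mul_of_nonneg_left ?_ hL
      set s := (q₀ ^ (K + j + 1))⁻¹ with hsdef
      have hq0 : (q₀ ^ (K + j))⁻¹ = q₀ * s := by
        rw [hsdef, pow_succ]
        field_simp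
      rw [hq0]
      have hs0 : 0 ≤ s := by positivity
      nlinarith [mul_nonneg (mul_nonneg (mul_nonneg ht ht) (mul_nonneg hs0 hs0))
        (mul_nonneg (show (0 : ℚ) ≤ q₀ by linarith) (show (0 : ℚ) ≤ q₀ - 1 by linarith))]
  refine le_trans (Finset.prod_le_prod_of_subset_of_one_le (Finset.range_mono (Nat.le_add_left n K))
    (fun M _ => hnn M) fun M _ _ => hge M) ((main n).trans ?_)
  have : 0 ≤ t * (q₀ ^ (K + n))⁻¹ := by positivity
  nlinarith

theorem fac_two_step (n : ℕ) (hn : 2 ≤ n) : fac 2 (n + 1) ≤ 1 + 2 * (2 - 1) * ((2 : ℚ) ^ (n + 1))⁻¹ := by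
  have hle : ((2 : ℚ) ^ (n + 1))⁻¹ ≤ 1 / 4 := by
    rw [one_div]
    exact inv_anti₀ (by norm_num) (le_trans (by norm_num) (pow_le_pow_right₀ (by norm_num) (show 2 ≤ n + 1 by omega)))
  have h0 : 0 ≤ ((2 : ℚ) ^ (n + 1))⁻¹ := by positivity
  rw [fac, div_le_iff₀ (by linarith), pow_succ (2 : ℚ) (n + 1), _root_.mul_inv]
  nlinarith

theorem fac_three_step (n : ℕ) (hn : 1 ≤ n) : fac 3 (n + 1) ≤ 1 + 1 * (3 - 1) * ((3 : ℚ) ^ (n + 1))⁻¹ := by
  have hle : ((3 : ℚ) ^ (n + 1))⁻¹ ≤ 1 / 9 := by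
    rw [one_div]
    exact inv_anti₀ (by norm_num) (le_trans (by norm_num) (pow_le_pow_right₀ (by norm_num) (show 2 ≤ n + 1 by omega)))
  have h0 : 0 ≤ ((3 : ℚ) ^ (n + 1))⁻¹ := by positivity
  rw [fac, div_le_iff₀ (by linarith), pow_succ (3 : ℚ) (n + 1), _root_.mul_inv]
  nlinarith

theorem shapeSum_two {n : ℕ} (hn : 1 ≤ n) (m : ℕ) : 100 * shapeSum 2 n m ≤ 826 * 2 ^ m := by
  obtain ⟨j, rfl⟩ : ∃ j, n = j + 1 := ⟨n - 1, by omega⟩
  have h := shapeSum_le (le_refl 2) j m
  have hp := prod_fac_le (q := ((2 : ℕ) : ℚ)) (q₀ := 2) (le_refl 2) (by norm_num) (t := 2) (L := 826 / 150) (K := 12)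
    (by norm_num) (by norm_num) (by norm_num [Finset.prod_range_succ, fac])
    (fun n hn => fac_two_step n (by omega)) j
  have : ((100 * shapeSum 2 (j + 1) m : ℕ) : ℚ) ≤ ((826 * 2 ^ m : ℕ) : ℚ) := by
    push_cast
    refine (mul_le_mul_of_nonneg_left h (by norm_num)).trans ?_
    have h2 : (0 : ℚ) ≤ (2 : ℚ) ^ m := by positivity
    push_cast at hp ⊢
    nlinarith
  exact_mod_cast this

theorem shapeSum_three {q n : ℕ} (hq : 3 ≤ q) (hn : 1 ≤ n) (m : ℕ) : shapeSum q n m ≤ 3 * q ^ m := by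
  obtain ⟨j, rfl⟩ : ∃ j, n = j + 1 := ⟨n - 1, by omega⟩
  have h := shapeSum_le (show 2 ≤ q by omega) j m
  have hq3 : (3 : ℚ) ≤ q := by exact_mod_cast hq
  have hp := prod_fac_le (q := (q : ℚ)) (q₀ := 3) (by norm_num) hq3 (t := 1) (L := 9 / 4) (K := 5)
    (by norm_num) (by norm_num) (by norm_num [Finset.prod_range_succ, fac])
    (fun n hn => fac_three_step n (by omega)) j
  have h1 : (1 + 1 / (q : ℚ)) ≤ 4 / 3 := by
    have : 1 / (q : ℚ) ≤ 1 / 3 := one_div_le_one_div_of_le (by norm_num) hq3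
    linarith
  have : ((shapeSum q (j + 1) m : ℕ) : ℚ) ≤ ((3 * q ^ m : ℕ) : ℚ) := by
    push_cast
    refine h.trans (mul_le_mul_of_nonneg_right ?_ (by positivity))
    calc _ ≤ (4 / 3 : ℚ) * (9 / 4) := mul_le_mul h1 hp
          (Finset.prod_nonneg fun M _ => fac_nonneg (by linarith) M) (by norm_num)
      _ = 3 := by norm_num
  exact_mod_cast this

theorem hsh_dvd {q M m : ℕ} {d : Fin M → ℕ} (hd : d ∈ shapes M m) : hsh q d ∣ m := by
  classical
  rw [← mem_shapes.1 hd]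
  refine Finset.dvd_sum fun k _ => ?_
  by_cases h : d k = 0
  · simp [h]
  · exact ((Nat.gcd_dvd_right _ _).trans (Finset.gcd_dvd (Finset.mem_filter.2 ⟨Finset.mem_univ k, h⟩))).mul_right _

theorem sum_hsh_le {q n h : ℕ} (hh : 0 < h) :
    ∑ d ∈ (shapes n n).filter (fun d => hsh q d = h), ∏ k, wgt q (d k) ≤ shapeSum q (n / h) (n / h) := by
  classical
  have hidx : ∀ j : Fin (n / h), h * (j.val + 1) - 1 < n := fun j => by
    have h1 : h * (j.val + 1) ≤ h * (n / h) := Nat.mul_le_mul_left h (Nat.succ_le_of_lt j.isLt)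
    have h2 := Nat.mul_div_le n h
    have h3 : 1 ≤ h * (j.val + 1) := Nat.one_le_iff_ne_zero.2 (by positivity)
    omega
  let σ : Fin (n / h) → Fin n := fun j => ⟨h * (j.val + 1) - 1, hidx j⟩
  have hσ : ∀ j, (σ j).val + 1 = h * (j.val + 1) := fun j =>
    Nat.sub_add_cancel (Nat.one_le_iff_ne_zero.2 (by positivity))
  have hσi : Function.Injective σ := fun a b hab => by
    have := congrArg (fun k : Fin n => k.val + 1) hab
    simp only [hσ] at this
    exact Fin.ext (by have := Nat.eq_of_mul_eq_mul_left hh this; omega)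
  have hout : ∀ d ∈ (shapes n n).filter (fun d => hsh q d = h), ∀ k, k ∉ Finset.univ.image σ → d k = 0 := by
    intro d hd k hk
    by_contra hdk
    obtain ⟨c, hc⟩ : h ∣ k.val + 1 := (Finset.mem_filter.1 hd).2 ▸
      (Nat.gcd_dvd_right _ _).trans (Finset.gcd_dvd (Finset.mem_filter.2 ⟨Finset.mem_univ k, hdk⟩))
    have hc0 : c ≠ 0 := fun h0 => by rw [h0, mul_zero] at hc; omega
    have hcM : c ≤ n / h := (Nat.le_div_iff_mul_le hh).2 (by rw [mul_comm, ← hc]; omega)
    refine hk (Finset.mem_image.2 ⟨⟨c - 1, by omega⟩, Finset.mem_univ _, Fin.ext ?_⟩)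
    have h4 := hσ ⟨c - 1, by omega⟩
    rw [show ((⟨c - 1, by omega⟩ : Fin (n / h)).val + 1) = c from Nat.sub_add_cancel (by omega)] at h4
    omega
  rw [shapeSum]
  refine le_of_eq_of_le ?_ (Finset.sum_le_sum_of_subset
    (s := ((shapes n n).filter fun d => hsh q d = h).image fun d j => d (σ j)) ?_)
  · rw [Finset.sum_image]
    · refine Finset.sum_congr rfl fun d hd => ?_
      rw [← Finset.prod_subset (Finset.subset_univ (Finset.univ.image σ))
        (fun k _ hk => by rw [hout d hd k hk]; rfl), Finset.prod_image (fun a _ b _ hab => hσi hab)]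
    · intro d hd d' hd' he
      funext k
      by_cases hk : k ∈ Finset.univ.image σ
      · obtain ⟨j, -, rfl⟩ := Finset.mem_image.1 hk
        exact congrFun he j
      · rw [hout d hd k hk, hout d' hd' k hk]
  · intro e he
    obtain ⟨d, hd, rfl⟩ := Finset.mem_image.1 he
    rw [mem_shapes]
    symm
    refine Nat.div_eq_of_eq_mul_left hh ?_
    conv_lhs => rw [← mem_shapes.1 (Finset.mem_filter.1 hd).1]
    rw [Finset.sum_mul, ← Finset.sum_subset (Finset.subset_univ (Finset.univ.image σ))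
      (fun k _ hk => by rw [hout d hd k hk, mul_zero]), Finset.sum_image (fun a _ b _ hab => hσi hab)]
    refine Finset.sum_congr rfl fun j _ => ?_
    rw [hσ]; ring

/-- Splitting by exponent. -/
theorem weighted_le {q n : ℕ} (hn : 1 ≤ n) :
    ∑ d ∈ shapes n n, (∏ k, wgt q (d k)) * hsh q d ^ 2 ≤
      shapeSum q n n + ∑ h ∈ (Nat.gcd n (q + 1)).divisors.erase 1, (h ^ 2 - 1) * shapeSum q (n / h) (n / h) := by
  classical
  have hsplit : ∀ d : Fin n → ℕ, (∏ k, wgt q (d k)) * hsh q d ^ 2 =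
      (∏ k, wgt q (d k)) + (hsh q d ^ 2 - 1) * ∏ k, wgt q (d k) := fun d => by
    have h1 : 1 ≤ hsh q d ^ 2 := Nat.one_le_pow _ _ (Nat.gcd_pos_of_pos_left _ (Nat.succ_pos q))
    obtain ⟨e, he⟩ : ∃ e, hsh q d ^ 2 = e + 1 := ⟨_, (Nat.sub_add_cancel h1).symm⟩
    rw [he, Nat.add_sub_cancel]; ring
  rw [Finset.sum_congr rfl fun d _ => hsplit d, Finset.sum_add_distrib]
  refine Nat.add_le_add le_rfl ?_
  rw [← Finset.sum_fiberwise_of_maps_to (t := (Nat.gcd n (q + 1)).divisors) (g := fun d => hsh q d)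
      (fun d hd => Nat.mem_divisors.2 ⟨Nat.dvd_gcd (hsh_dvd hd) (Nat.gcd_dvd_left _ _),
        (Nat.gcd_pos_of_pos_left _ hn).ne'⟩) (fun d => (hsh q d ^ 2 - 1) * ∏ k, wgt q (d k)),
    ← Finset.sum_erase (a := 1) _ (Finset.sum_eq_zero fun d hd => by
      rw [(Finset.mem_filter.1 hd).2, one_pow, Nat.sub_self, zero_mul])]
  refine Finset.sum_le_sum fun h hh => ?_
  rw [Finset.sum_congr rfl fun d hd => by rw [(Finset.mem_filter.1 hd).2], ← Finset.mul_sum]
  exact Nat.mul_le_mul_left _ (sum_hsh_le (Nat.pos_of_mem_divisors (Finset.mem_of_mem_erase hh)))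

theorem corr_two {n : ℕ} (hn : 2 ≤ n) :
    100 * (∑ d ∈ shapes n n, (∏ k, wgt 2 (d k)) * hsh 2 d ^ 2) ≤ 826 * 3 * 2 ^ (n - 1) := by
  have h0 := weighted_le (q := 2) (n := n) (by omega)
  have hU := shapeSum_two (n := n) (by omega) n
  obtain ⟨i, rfl⟩ : ∃ i, n = i + 2 := ⟨n - 2, by omega⟩
  rw [show i + 2 - 1 = i + 1 by omega]
  have hpow : 2 ^ (i + 2) = 4 * 2 ^ i := by ring
  have hpow1 : 2 ^ (i + 1) = 2 * 2 ^ i := by ring
  rw [hpow] at hU
  rw [hpow1]
  by_cases h3 : 3 ∣ i + 2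
  · rw [show Nat.gcd (i + 2) (2 + 1) = 3 from Nat.gcd_eq_right h3, Nat.Prime.divisors Nat.prime_three,
      show ({1, 3} : Finset ℕ).erase 1 = {3} from by decide, Finset.sum_singleton,
      show (3 : ℕ) ^ 2 - 1 = 8 from rfl] at h0
    obtain ⟨j, hj⟩ := h3
    rw [hj, Nat.mul_div_cancel_left _ (by norm_num : 0 < 3), ← hj] at h0
    rcases (show j = 1 ∨ 2 ≤ j by omega) with rfl | hj2
    · have h1 : shapeSum 2 1 1 = 3 := by decide
      rw [h1] at h0
      obtain rfl : i = 1 := by omega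
      norm_num at hU ⊢ h0
      omega
    · have hV := shapeSum_two (n := j) (by omega) j
      have hp : 2 ^ j * 4 ≤ 2 ^ i := by
        rw [show 2 ^ j * 4 = 2 ^ (j + 2) by ring]
        exact Nat.pow_le_pow_right (by norm_num) (by omega)
      omega
  · rw [show Nat.gcd (i + 2) (2 + 1) = 1 from
      Nat.coprime_comm.1 (Nat.prime_three.coprime_iff_not_dvd.2 h3), Nat.divisors_one,
      Finset.erase_singleton, Finset.sum_empty, add_zero] at h0
    omega

theorem corr_three {q n : ℕ} (hq : 3 ≤ q) (hn : 2 ≤ n) :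
    100 * (∑ d ∈ shapes n n, (∏ k, wgt q (d k)) * hsh q d ^ 2) ≤ 826 * (q + 1) * q ^ (n - 1) := by
  classical
  have h0 := weighted_le (q := q) (n := n) (by omega)
  have hU := shapeSum_three (n := n) hq (by omega) n
  set g := Nat.gcd n (q + 1) with hg
  have hmem : ∀ h ∈ g.divisors.erase 1, 2 ≤ h ∧ h ∣ n ∧ h ≤ q + 1 ∧ h ≤ n := fun h hh => by
    rw [Finset.mem_erase, Nat.mem_divisors] at hh
    have := Nat.pos_of_dvd_of_pos hh.2.1 (Nat.pos_of_ne_zero hh.2.2)
    exact ⟨by omega, hh.2.1.trans (Nat.gcd_dvd_left _ _),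
      Nat.le_of_dvd (by omega) (hh.2.1.trans (Nat.gcd_dvd_right _ _)),
      Nat.le_of_dvd (by omega) (hh.2.1.trans (Nat.gcd_dvd_left _ _))⟩
  have hterm : ∀ h ∈ g.divisors.erase 1,
      (h ^ 2 - 1) * shapeSum q (n / h) (n / h) ≤ 3 * (h ^ 2 * q ^ (n / h)) := fun h hh => by
    obtain ⟨h2, -, -, hle⟩ := hmem h hh
    rw [show 3 * (h ^ 2 * q ^ (n / h)) = h ^ 2 * (3 * q ^ (n / h)) by ring]
    exact Nat.mul_le_mul (Nat.sub_le _ _) (shapeSum_three hq (Nat.div_pos hle (by omega)) _)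
  have hS : 5 * q ^ n ≥ ∑ h ∈ g.divisors.erase 1, 3 * (h ^ 2 * q ^ (n / h)) := by
    rcases Nat.lt_or_ge n 6 with h6 | h6
    · refine (Finset.sum_le_sum_of_subset (t := (n.divisors).erase 1) ?_).trans ?_
      · intro h hh
        obtain ⟨h2, hd, -, -⟩ := hmem h hh
        exact Finset.mem_erase.2 ⟨by omega, Nat.mem_divisors.2 ⟨hd, by omega⟩⟩
      · have hq2 : 9 ≤ q * q := by nlinarith
        interval_cases n
        · rw [show (Nat.divisors 2).erase 1 = {2} from by decide, Finset.sum_singleton]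
          norm_num
          nlinarith
        · rw [show (Nat.divisors 3).erase 1 = {3} from by decide, Finset.sum_singleton]
          norm_num
          nlinarith
        · rw [show (Nat.divisors 4).erase 1 = {2, 4} from by decide, Finset.sum_pair (by norm_num)]
          norm_num
          nlinarith
        · rw [show (Nat.divisors 5).erase 1 = {5} from by decide, Finset.sum_singleton]
          norm_num
          nlinarith [Nat.mul_le_mul hq2 hq2]
    · refine le_trans (Finset.sum_le_sum_of_subset (t := insert 2 ((g.divisors.erase 1).filter (3 ≤ ·))) ?_) ?_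
      · intro h hh
        obtain ⟨h2, -, -, -⟩ := hmem h hh
        rcases (show h = 2 ∨ 3 ≤ h by omega) with rfl | h3
        · exact Finset.mem_insert_self _ _
        · exact Finset.mem_insert_of_mem (Finset.mem_filter.2 ⟨hh, h3⟩)
      rw [Finset.sum_insert (by simp)]
      have hbig : ∀ h ∈ (g.divisors.erase 1).filter (3 ≤ ·),
          3 * (h ^ 2 * q ^ (n / h)) ≤ 3 * ((q + 1) ^ 2 * q ^ (n / 3)) := fun h hh => by
        obtain ⟨hh, h3⟩ := Finset.mem_filter.1 hh
        obtain ⟨-, -, hle, -⟩ := hmem h hh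
        exact Nat.mul_le_mul_left _ (Nat.mul_le_mul (Nat.pow_le_pow_left hle 2)
          (Nat.pow_le_pow_right (by omega) (Nat.div_le_div_left h3 (by norm_num))))
      have hcard : ((g.divisors.erase 1).filter (3 ≤ ·)).card ≤ q + 1 := by
        calc _ ≤ (Finset.Icc 1 (q + 1)).card := Finset.card_le_card fun h hh => by
              obtain ⟨h2, -, hle, -⟩ := hmem h (Finset.mem_filter.1 hh).1
              exact Finset.mem_Icc.2 ⟨by omega, hle⟩
          _ = _ := by rw [Nat.card_Icc, Nat.add_sub_cancel]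
      refine le_trans (Nat.add_le_add_left ((Finset.sum_le_card_nsmul _ _ _ hbig).trans
        (le_of_eq_of_le (smul_eq_mul _ _) (Nat.mul_le_mul_right _ hcard))) _) ?_
      have hp2 : q ^ (n / 2) * 27 ≤ q ^ n := by
        calc q ^ (n / 2) * 27 ≤ q ^ (n / 2) * q ^ 3 :=
              Nat.mul_le_mul_left _ (le_trans (by norm_num) (Nat.pow_le_pow_left hq 3))
          _ = q ^ (n / 2 + 3) := (pow_add _ _ _).symm
          _ ≤ q ^ n := Nat.pow_le_pow_right (by omega) (by omega)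
      have hp3 : q ^ (n / 3) * (q ^ 3 * 3) ≤ q ^ n := by
        calc q ^ (n / 3) * (q ^ 3 * 3) ≤ q ^ (n / 3) * (q ^ 3 * q) :=
              Nat.mul_le_mul_left _ (Nat.mul_le_mul_left _ hq)
          _ = q ^ (n / 3 + 4) := by ring
          _ ≤ q ^ n := Nat.pow_le_pow_right (by omega) (by omega)
      have h27 : 27 * (q + 1) ^ 3 ≤ 64 * q ^ 3 := by
        calc 27 * (q + 1) ^ 3 = (3 * (q + 1)) ^ 3 := by ring
          _ ≤ (4 * q) ^ 3 := Nat.pow_le_pow_left (by omega) 3
          _ = 64 * q ^ 3 := by ring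
      have h28 := Nat.mul_le_mul_left (q ^ (n / 3)) h27
      nlinarith
  have hsum := (Finset.sum_le_sum hterm).trans hS
  have hpn : q ^ n = q * q ^ (n - 1) := by rw [← pow_succ', Nat.sub_add_cancel (by omega : 1 ≤ n)]
  rw [hpn] at hsum hU
  nlinarith

/-- The weighted sum with squared exponents. -/
theorem weighted_bound {q n : ℕ} (hq : 2 ≤ q) (hn : 2 ≤ n) :
    100 * (∑ d ∈ shapes n n, (∏ k, wgt q (d k)) * hsh q d ^ 2) ≤ 826 * (q + 1) * q ^ (n - 1) := by
  rcases eq_or_lt_of_le hq with rfl | hlt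
  · exact corr_two hn
  · exact corr_three hlt hn

end Cfsg.Agent.Small.ClassNumberU
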