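import Mathlib
import Cfsg.Agent.Lib.Small.ClassNumberU.Root
import Cfsg.Agent.Lib.Small.PSUn.Basic
import Cfsg.Agent.Lib.Small.Hermitian

/-!
Unitary matrices which are conjugate in the general linear group are conjugate in the unitary group.
-/

set_option autoImplicit false
set_option linter.unusedSectionVars false
set_option linter.style.haveILetI false

namespace Cfsg.Agent.Small.ClassNumberU

open Matrix

variable {F : Type*} [Field F] [Fintype F] [StarRing F] {q n : ℕ}

theorem isConj_GU_of_GL (hstar : ∀ x : F, star x = x ^ q) (hF : Fintype.card F = q ^ 2)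
    (g h : ↥(Cfsg.GU n F q)) (hc : IsConj (g : GL (Fin n) F) (h : GL (Fin n) F)) : IsConj g h := by
  classical
  obtain ⟨P, hP⟩ := isConj_iff.1 hc
  set A := (g : GL (Fin n) F).1 with hA
  set B := (h : GL (Fin n) F).1 with hB
  have hAu : Aᴴ * A = 1 := (PSUn.mem_GU_iff_star hstar _).1 g.2
  have hBu : Bᴴ * B = 1 := (PSUn.mem_GU_iff_star hstar _).1 h.2
  set Q := P.1 with hQ
  set Q' := (P⁻¹ : GL (Fin n) F).1 with hQ'
  have hQQ : Q' * Q = 1 := P.inv_mul
  have hPB : B * Q = Q * A := by
    have := congrArg Units.val (mul_inv_eq_iff_eq_mul.1 hP)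
    rw [Units.val_mul, Units.val_mul] at this
    exact this.symm
  set M := Qᴴ * Q with hM
  have hMA : Aᴴ * M * A = M := by
    calc Aᴴ * M * A = (Q * A)ᴴ * (Q * A) := by rw [hM, conjTranspose_mul]; simp only [Matrix.mul_assoc]
      _ = Qᴴ * (Bᴴ * B) * Q := by rw [← hPB, conjTranspose_mul]; simp only [Matrix.mul_assoc]
      _ = M := by rw [hBu, Matrix.mul_one]
  have hAA : A * Aᴴ = 1 := mul_eq_one_comm.1 hAu
  have hMcomm : M * A = A * M := by
    conv_rhs => rw [← hMA]
    rw [← Matrix.mul_assoc, ← Matrix.mul_assoc, hAA, Matrix.one_mul]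
  have hMh : Mᴴ = M := by rw [hM, conjTranspose_mul, conjTranspose_conjTranspose]
  have hMu : IsUnit M := by
    rw [hM]
    exact ((Matrix.isUnit_conjTranspose _).2 P.isUnit).mul P.isUnit
  obtain ⟨b, hb⟩ := Hermitian.exists_star_ne hstar hF
  haveI : Finite (Matrix (Fin n) (Fin n) F) := inferInstance
  obtain ⟨Y, hYS, hYu, hY⟩ := exists_root (R := Matrix (Fin n) (Fin n) F) (fun X => Xᴴ)
    (fun x y => conjTranspose_add x y) (fun x y => conjTranspose_mul x y) conjTranspose_one
    (fun x => conjTranspose_conjTranspose x) {M, b • (1 : Matrix (Fin n) (Fin n) F)}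
    (by
      rintro x (rfl | rfl) y (rfl | rfl) <;> simp)
    (by
      rintro x (rfl | rfl)
      · rw [hMh]; exact Subring.subset_closure (Or.inl rfl)
      · have hbs : star b • (1 : Matrix (Fin n) (Fin n) F) = (b • 1) ^ q := by
          rw [hstar, _root_.smul_pow, one_pow]
        rw [conjTranspose_smul, conjTranspose_one, hbs]
        exact Subring.pow_mem _ (Subring.subset_closure (by simp)) _)
    (w := b • 1) (by simp)
    (by
      rw [conjTranspose_smul, conjTranspose_one, ← sub_smul]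
      rw [← Algebra.algebraMap_eq_smul_one]
      exact (sub_ne_zero.2 (Ne.symm hb)).isUnit.map _)
    (M := M) (by simp) hMu hMh
  have hYA : Commute A Y := by
    clear hY hYu
    induction hYS using Subring.closure_induction with
    | mem x hx =>
      rcases hx with rfl | rfl
      · exact hMcomm.symm
      · exact (Commute.one_right A).smul_right b
    | zero => exact Commute.zero_right _
    | one => exact Commute.one_right _
    | add x y _ _ ihx ihy => exact ihx.add_right ihy
    | neg x _ ihx => exact ihx.neg_right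
    | mul x y _ _ ihx ihy => exact ihx.mul_right ihy
  obtain ⟨Yu, rfl⟩ := hYu
  have hU : P * Yu⁻¹ ∈ Cfsg.GU n F q := by
    rw [PSUn.mem_GU_iff_star hstar, Units.val_mul, conjTranspose_mul]
    calc ((Yu⁻¹ : GL (Fin n) F).1)ᴴ * Qᴴ * (Q * (Yu⁻¹ : GL (Fin n) F).1)
        = ((Yu⁻¹ : GL (Fin n) F).1)ᴴ * M * (Yu⁻¹ : GL (Fin n) F).1 := by rw [hM]; simp only [Matrix.mul_assoc]
      _ = (Yu.1 * (Yu⁻¹ : GL (Fin n) F).1)ᴴ * (Yu.1 * (Yu⁻¹ : GL (Fin n) F).1) := by
          rw [← hY, conjTranspose_mul]; simp only [Matrix.mul_assoc]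
      _ = 1 := by rw [Units.mul_inv, conjTranspose_one, Matrix.one_mul]
  refine isConj_iff.2 ⟨⟨_, hU⟩, Subtype.ext ?_⟩
  show P * Yu⁻¹ * (g : GL (Fin n) F) * (P * Yu⁻¹)⁻¹ = (h : GL (Fin n) F)
  have hYg : Yu⁻¹ * (g : GL (Fin n) F) = (g : GL (Fin n) F) * Yu⁻¹ :=
    (Commute.inv_left (show Commute Yu (g : GL (Fin n) F) from Units.ext hYA.symm.eq)).eq
  rw [mul_assoc P, hYg, ← hP]
  group

end Cfsg.Agent.Small.ClassNumberU
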