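import Mathlib
import Cfsg.Agent.Lib.Small.ClassNumberU.Adjoint
import Cfsg.Agent.Lib.Small.ClassNumberU.Norm
import Cfsg.Agent.Lib.Small.Hermitian

/-!
Determinants of isometries commuting with an isometry: for the exponents of the blocks they reach all
powers of that order of the norm-one scalars.
-/

set_option autoImplicit false
set_option linter.unusedSectionVars false
set_option linter.style.haveILetI false

namespace Cfsg.Agent.Small.ClassNumberU

open Polynomial Cfsg.Agent.Small.ClassNumber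

universe u v

variable {F : Type u} [Field F] [Fintype F] [StarRing F] {V : Type v} [AddCommGroup V] [Module F V]
  [FiniteDimensional F V]

namespace HSpace

/-- The determinants of adjoint endomorphisms are conjugate. -/
theorem det_adjoint (H : HSpace F V) {X Y : Module.End F V} (h : ∀ x y, H.B (X x) y = H.B x (Y y)) :
    LinearMap.det Y = star (LinearMap.det X) := by
  classical
  let b := Module.finBasis F V
  rw [← LinearMap.det_toMatrix b, ← LinearMap.det_toMatrix b]
  set G : Matrix (Fin (Module.finrank F V)) (Fin (Module.finrank F V)) F := Matrix.of fun i j => H.B (b i) (b j)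
    with hG
  have hrepr : ∀ (Z : Module.End F V) j, Z (b j) = ∑ k, LinearMap.toMatrix b b Z k j • b k := fun Z j => by
    conv_lhs => rw [← b.sum_repr (Z (b j))]
    exact Finset.sum_congr rfl fun k _ => by rw [LinearMap.toMatrix_apply]
  have hGu : IsUnit G.det := by
    rw [← Matrix.isUnit_iff_isUnit_det, ← Matrix.mulVec_injective_iff_isUnit]
    intro u w huw
    obtain ⟨z, hz⟩ : ∃ z, z = ∑ j, (u j - w j) • b j := ⟨_, rfl⟩
    have hbz : ∀ i, H.B (b i) z = 0 := fun i => by
      have := congrFun huw i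
      simp only [Matrix.mulVec, dotProduct, hG, Matrix.of_apply] at this
      rw [hz, map_sum]
      simp only [smul_right, sub_mul]
      rw [Finset.sum_sub_distrib, sub_eq_zero]
      simpa [mul_comm] using this
    have h0 : ∑ j, (u j - w j) • b j = 0 := hz ▸ H.nondeg z fun y => H.swap_zero (by
      rw [← b.sum_repr y, map_sum, LinearMap.sum_apply]
      exact Finset.sum_eq_zero fun i _ => by rw [smul_left, hbz, mul_zero])
    funext j
    have := congrArg (fun z => b.repr z j) h0
    simpa [Finsupp.single_apply, sub_eq_zero] using this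
  have key : (LinearMap.toMatrix b b X).conjTranspose * G = G * LinearMap.toMatrix b b Y := by
    ext i j
    rw [Matrix.mul_apply, Matrix.mul_apply]
    have h1 := h (b i) (b j)
    rw [hrepr X i, hrepr Y j, map_sum, LinearMap.sum_apply, map_sum] at h1
    simp only [smul_left, smul_right] at h1
    refine (Finset.sum_congr rfl fun k _ => ?_).trans (h1.trans (Finset.sum_congr rfl fun k _ => ?_))
    · simp [hG, Matrix.conjTranspose_apply]
    · simp [hG, mul_comm]
  have := congrArg Matrix.det key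
  rw [Matrix.det_mul, Matrix.det_mul, Matrix.det_conjTranspose] at this
  refine mul_left_cancel₀ hGu.ne_zero ?_
  rw [← this, mul_comm]

/-- The restriction to an invariant non-degenerate subspace. -/
noncomputable def restrict (H : HSpace F V) (W : Submodule F V) (hW : W.map H.T.toLinearMap = W)
    (hnd : ∀ y ∈ W, (∀ z ∈ W, H.B z y = 0) → y = 0) : HSpace F W where
  B := LinearMap.mk₂'ₛₗ (starRingEnd F) (RingHom.id F) (fun x y => H.B x.1 y.1)
    (fun a b c => by simp) (fun c a b => by simp [H.smul_left]) (fun a b c => by simp) (fun c a b => by simp)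
  herm x y := H.herm x.1 y.1
  nondeg x hx := Subtype.ext (hnd x.1 x.2 fun z hz => H.swap_zero (hx ⟨z, hz⟩))
  T := LinearEquiv.ofSubmodules H.T W W hW
  iso x y := H.iso x.1 y.1

/-- The claim: the blocks of some decomposition are reached. -/
def Reached (H : HSpace F V) : Prop :=
  ∃ D : Decomp H.Te, ∀ i, ∀ ν : F, star ν * ν = 1 →
    ∃ u : Module.End F V, Commute u H.Te ∧ (∀ x y, H.B (u x) (u y) = H.B x y) ∧ LinearMap.det u = ν ^ D.e i

theorem reached_of_cyclic (H : HSpace F V) (hF : ∃ b : F, star b ≠ b) {P : F[X]} {e : ℕ}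
    (hP : Irreducible P) (hPm : P.Monic) (hP0 : P.coeff 0 ≠ 0) {x : V} (hx : H.cyc x = ⊤) {Q : F[X]}
    [Decidable (dual P = P)] (hQ : Q = if dual P = P then P ^ e else (P * dual P) ^ e)
    (hQx : aeval H.Te Q x = 0) (hQm : Q ∣ minpoly F H.Te) (he : 0 < e) : H.Reached := by
  classical
  obtain ⟨D⟩ := exists_decomp H.Te
  have hint : IsIntegral F H.Te := Algebra.IsIntegral.isIntegral _
  have hQ0 : aeval H.Te Q = 0 := LinearMap.ext fun y => by
    obtain ⟨g, rfl⟩ := H.mem_cyc.1 (show y ∈ H.cyc x by rw [hx]; exact Submodule.mem_top)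
    rw [← aeval_mul_apply, mul_comm, aeval_mul_apply, hQx, map_zero, LinearMap.zero_apply]
  obtain ⟨hdm, hdd, hd0⟩ := dual_spec hPm hP0
  have hdP := dual_irreducible hP hPm hP0
  have hQmon : Q.Monic := by rw [hQ]; split_ifs; exacts [hPm.pow _, (hPm.mul hdm).pow _]
  have hQeq : minpoly F H.Te = Q :=
    (eq_of_monic_of_dvd_of_natDegree_le hQmon (minpoly.monic hint) hQm
      (natDegree_le_of_dvd (minpoly.dvd F _ hQ0) hQmon.ne_zero))
  -- the dimension
  have hdim : Module.finrank F V ≤ Q.natDegree := by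
    let f : degreeLT F Q.natDegree →ₗ[F] V :=
      ((LinearMap.applyₗ x).comp (aeval H.Te : F[X] →ₐ[F] Module.End F V).toLinearMap).comp (degreeLT F Q.natDegree).subtype
    have hsurj : Function.Surjective f := fun y => by
      obtain ⟨g, rfl⟩ := H.mem_cyc.1 (show y ∈ H.cyc x by rw [hx]; exact Submodule.mem_top)
      refine ⟨⟨g %ₘ Q, Polynomial.mem_degreeLT.2 ((degree_modByMonic_lt g hQmon).trans_le degree_le_natDegree)⟩, ?_⟩
      show aeval H.Te (g %ₘ Q) x = aeval H.Te g x
      conv_rhs => rw [← modByMonic_add_div g Q, map_add, map_mul, hQ0, zero_mul, add_zero]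
    calc Module.finrank F V ≤ Module.finrank F (degreeLT F Q.natDegree) := LinearMap.finrank_le_finrank_of_surjective hsurj
      _ = Q.natDegree := by rw [(Polynomial.degreeLTEquiv F Q.natDegree).finrank_eq, Module.finrank_fin_fun]
  -- the blocks
  have hann : ∀ (G : F[X]), (∀ i, D.p i ^ D.e i ∣ G) → Q ∣ G := fun G hG => by
    rw [← hQeq]
    refine minpoly.dvd F _ (LinearMap.ext fun y => D.Ψ.injective (funext fun i => ?_))
    rw [D.map_aeval, AdjoinRoot.mk_eq_zero.2 (hG i), zero_mul, LinearMap.zero_apply, map_zero]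
    rfl
  have hblk : ∀ i, D.p i ^ D.e i ∣ Q := fun i => by
    have h := D.map_aeval Q (D.Ψ.symm (Pi.single i 1)) i
    rw [hQ0, LinearMap.zero_apply, map_zero, D.Ψ.apply_symm_apply, Pi.single_eq_same, mul_one] at h
    exact AdjoinRoot.mk_eq_zero.1 h.symm
  set L : F[X] := ∏ i, D.p i ^ D.e i with hL
  have hLm : L.Monic := monic_prod_of_monic _ _ fun i _ => (D.monic i).pow _
  have hLd : L.natDegree = Module.finrank F V := by
    rw [hL, natDegree_prod_of_monic _ _ fun i _ => (D.monic i).pow _, D.finrank_eq]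
    exact Finset.sum_congr rfl fun i _ => natDegree_pow _ _
  have hLQ : L = Q := eq_of_monic_of_dvd_of_natDegree_le hQmon hLm (hann _ fun i => Finset.dvd_prod_of_mem (fun j => D.p j ^ D.e j) (Finset.mem_univ i)) (hLd ▸ hdim)
  have hinj : Function.Injective D.p := by
    intro i j hij
    by_contra hne
    wlog hle : D.e j ≤ D.e i generalizing i j
    · exact this hij.symm (Ne.symm hne) (le_of_not_ge hle)
    have h1 : Q ∣ ∏ k ∈ Finset.univ.erase j, D.p k ^ D.e k := hann _ fun k => by
      by_cases hk : k = j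
      · subst hk
        exact (show D.p k ^ D.e k ∣ D.p i ^ D.e i by rw [hij]; exact pow_dvd_pow _ hle).trans (Finset.dvd_prod_of_mem (fun k => D.p k ^ D.e k) (Finset.mem_erase.2 ⟨hne, Finset.mem_univ _⟩))
      · exact Finset.dvd_prod_of_mem (fun k => D.p k ^ D.e k) (Finset.mem_erase.2 ⟨hk, Finset.mem_univ _⟩)
    have h2 := natDegree_le_of_dvd h1 (monic_prod_of_monic _ _ fun k _ => (D.monic k).pow _).ne_zero
    rw [← hLQ, hL, ← Finset.mul_prod_erase _ _ (Finset.mem_univ j),
      ((D.monic j).pow _).natDegree_mul (monic_prod_of_monic _ _ fun k _ => (D.monic k).pow _), natDegree_pow] at h2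
    have := Nat.mul_pos (Nat.pos_of_ne_zero (D.pos j)) (D.irred j).natDegree_pos
    omega
  have hp : ∀ i, D.p i = P ∨ D.p i = dual P := fun i => by
    have h := (dvd_pow_self (D.p i) (D.pos i)).trans (hblk i)
    rw [hQ] at h
    split_ifs at h
    · exact Or.inl (eq_of_monic_of_associated (D.monic i) hPm ((D.irred i).associated_of_dvd hP ((D.irred i).prime.dvd_of_dvd_pow h)))
    · rcases (D.irred i).prime.dvd_mul.1 ((D.irred i).prime.dvd_of_dvd_pow h) with h' | h'
      · exact Or.inl (eq_of_monic_of_associated (D.monic i) hPm ((D.irred i).associated_of_dvd hP h'))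
      · exact Or.inr (eq_of_monic_of_associated (D.monic i) hdm ((D.irred i).associated_of_dvd hdP h'))
  have hsole : ∀ i G, D.p i = G → Irreducible G → L = G ^ D.e i * ∏ k ∈ Finset.univ.erase i, D.p k ^ D.e k ∧
      ¬ G ∣ ∏ k ∈ Finset.univ.erase i, D.p k ^ D.e k := fun i G hG hGi => by
    refine ⟨by rw [hL, ← Finset.mul_prod_erase _ _ (Finset.mem_univ i), hG], fun h => ?_⟩
    obtain ⟨k, hk, hdvd⟩ := hGi.prime.exists_mem_finset_dvd h
    subst hG
    exact (Finset.mem_erase.1 hk).1 (hinj (eq_of_monic_of_associated (D.monic k) (D.monic i)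
      ((D.irred i).associated_of_dvd (D.irred k) ((D.irred i).prime.dvd_of_dvd_pow hdvd)).symm))
  have hall : ∀ i, D.e i = e := fun i => by
    obtain ⟨hLi, hnd⟩ := hsole i _ rfl (D.irred i)
    obtain ⟨A, hA, hAnd⟩ : ∃ A, Q = D.p i ^ e * A ∧ ¬ D.p i ∣ A := by
      by_cases hd : dual P = P
      · refine ⟨1, ?_, fun h => (D.irred i).not_isUnit (isUnit_of_dvd_one h)⟩
        rcases hp i with h | h <;> rw [hQ, if_pos hd, h, mul_one]
        rw [hd]
      · have hne : ∀ {A B : F[X]}, A.Monic → B.Monic → Irreducible A → Irreducible B → A ≠ B → ¬ A ∣ B ^ e :=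
          fun hA hB hAi hBi hne h => hne (eq_of_monic_of_associated hA hB (hAi.associated_of_dvd hBi (hAi.prime.dvd_of_dvd_pow h)))
        rcases hp i with h | h <;> rw [h]
        · exact ⟨dual P ^ e, by rw [hQ, if_neg hd, mul_pow], hne hPm hdm hP hdP (Ne.symm hd)⟩
        · exact ⟨P ^ e, by rw [hQ, if_neg hd, mul_pow, mul_comm], hne hdm hPm hdP hP hd⟩
    have hco : ∀ {B : F[X]}, ¬ D.p i ∣ B → ∀ j, IsCoprime (D.p i ^ j) B := fun hB j =>
      ((D.irred i).coprime_iff_not_dvd.2 hB).pow_left
    have h1 : D.p i ^ D.e i ∣ D.p i ^ e := (hco hAnd _).dvd_of_dvd_mul_right (by rw [← hA, ← hLQ, hLi]; exact dvd_mul_right _ _)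
    have h2 : D.p i ^ e ∣ D.p i ^ D.e i := (hco hnd _).dvd_of_dvd_mul_right (by rw [← hLi, hLQ, hA]; exact dvd_mul_right _ _)
    exact le_antisymm ((pow_dvd_pow_iff (D.irred i).ne_zero (D.irred i).not_isUnit).1 h1)
      ((pow_dvd_pow_iff (D.irred i).ne_zero (D.irred i).not_isUnit).1 h2)
  refine ⟨D, fun i ν hν => ?_⟩
  rw [hall i]
  -- Hilbert 90 and a polynomial with the prescribed norms
  obtain ⟨b, hb⟩ := hF
  obtain ⟨c, hc⟩ := hilbert90 (starRingEnd F) (fun x => star_star x) (w := b)
    (sub_ne_zero.2 (Ne.symm hb)).isUnit (u := ν) (by rw [mul_comm]; exact hν)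
  obtain ⟨i₀, hi₀⟩ : ∃ i, D.p i = P := by
    by_contra! h
    have h1 : ¬ P ∣ L := fun hd => by
      obtain ⟨k, -, hk⟩ := hP.prime.exists_mem_finset_dvd hd
      exact h k (eq_of_monic_of_associated (D.monic k) hPm
        (hP.associated_of_dvd (D.irred k) (hP.prime.dvd_of_dvd_pow hk)).symm)
    refine h1 (hLQ ▸ ?_)
    rw [hQ]; split_ifs
    exacts [dvd_pow_self _ he.ne', (dvd_mul_right P _).trans (dvd_pow_self _ he.ne')]
  haveI : Fact (Irreducible P) := ⟨hP⟩
  haveI : Module.Finite F (AdjoinRoot P) := finite_adjoinRoot hPm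
  haveI : Finite (AdjoinRoot P) := Module.finite_of_finite F
  obtain ⟨w, hw⟩ := FiniteField.unitsMap_norm_surjective F (AdjoinRoot P) c
  obtain ⟨a, ha⟩ := AdjoinRoot.mk_surjective (g := P) (w : AdjoinRoot P)
  obtain ⟨hLi, hnd⟩ := hsole i₀ P hi₀ hP
  obtain ⟨A, B, hAB⟩ := (hP.coprime_iff_not_dvd.2 hnd)
  set R := ∏ k ∈ Finset.univ.erase i₀, D.p k ^ D.e k with hR
  set f : F[X] := A * P + a * (B * R) with hf
  have hfP : AdjoinRoot.mk P f = w := by
    rw [hf, ← ha, AdjoinRoot.mk_eq_mk]
    exact ⟨A - a * A, by linear_combination a * hAB⟩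
  have hfR : ∀ k, k ≠ i₀ → AdjoinRoot.mk (D.p k) f = 1 := fun k hk => by
    obtain ⟨R', hR'⟩ : D.p k ∣ R := (dvd_pow_self _ (D.pos k)).trans
      (Finset.dvd_prod_of_mem (fun k => D.p k ^ D.e k) (Finset.mem_erase.2 ⟨hk, Finset.mem_univ _⟩))
    rw [← map_one (AdjoinRoot.mk (D.p k)), AdjoinRoot.mk_eq_mk]
    exact ⟨(a * B - B) * R', by rw [hf]; linear_combination hAB + (a * B - B) * hR'⟩
  have hdetf : LinearMap.det (aeval H.Te f) = (c : F) ^ e := by
    have hop : aeval H.Te f = D.ofPi fun k => LinearMap.mulLeft F (AdjoinRoot.mk (D.p k ^ D.e k) f) := by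
      refine LinearMap.ext fun y => D.Ψ.injective (funext fun k => ?_)
      simp only [Decomp.ofPi, MonoidHom.coe_mk, OneHom.coe_mk, LinearEquiv.conj_apply, LinearMap.comp_apply,
        LinearEquiv.symm_symm, LinearEquiv.coe_coe, LinearEquiv.apply_symm_apply, piEnd_apply, LinearMap.mulLeft_apply]
      exact D.map_aeval f y k
    rw [hop, D.det_ofPi, Finset.prod_eq_single i₀]
    · subst hi₀
      rw [det_mulLeft_eq_norm, norm_mk_pow (D.monic i₀), hall, hfP, ← hw]
      rfl
    · intro k _ hk
      rw [det_mulLeft_eq_norm, norm_mk_pow (D.monic k), hfR k hk, map_one, one_pow]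
    · exact fun h => absurd (Finset.mem_univ _) h
  -- the isometry
  set Z := aeval H.Te f with hZ
  set Z' := aeval H.Ti (f.map (starRingEnd F)) with hZ'
  have hadj : ∀ x y, H.B (Z x) y = H.B x (Z' y) := H.adjoint f
  have hadj' : ∀ x y, H.B (Z' x) y = H.B x (Z y) := fun x y => by rw [← H.herm, ← hadj, H.herm]
  have hdetZ' : LinearMap.det Z' = star ((c : F) ^ e) := by rw [H.det_adjoint hadj, hdetf]
  have hcomm : ∀ g : F[X], Commute H.Te (aeval H.Ti g) := fun g => by
    induction g using Polynomial.induction_on' with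
    | add p r hp hr => rw [map_add]; exact hp.add_right hr
    | monomial j d => rw [aeval_monomial]; exact (Algebra.commute_algebraMap_right d _).mul_right (H.comm_Te_Ti.pow_right j)
  have hcZ : Commute Z H.Te := by rw [hZ]; simpa using (Commute.all f X).map (aeval H.Te)
  have hcZZ' : Commute Z Z' := by
    have h : ∀ g : F[X], Commute (aeval H.Te g) Z' := fun g => by
      induction g using Polynomial.induction_on' with
      | add p r hp hr => rw [map_add]; exact hp.add_left hr
      | monomial j d => rw [aeval_monomial]; exact (Algebra.commute_algebraMap_left d _).mul_left ((hcomm _).pow_left j)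
    exact h f
  have hZu : IsUnit Z' := (LinearMap.isUnit_iff_isUnit_det Z').2 (by
    rw [hdetZ']; exact (star_ne_zero.2 (pow_ne_zero _ c.ne_zero)).isUnit)
  obtain ⟨Zu, hZu⟩ := hZu
  refine ⟨Z * (↑Zu⁻¹ : Module.End F V), hcZ.mul_left ((show Commute (↑Zu : Module.End F V) H.Te by
      rw [hZu]; exact (hcomm _).symm).units_inv_left), fun y z => ?_, ?_⟩
  · have hi : ∀ v, Z' ((↑Zu⁻¹ : Module.End F V) v) = v := fun v => by
      rw [← hZu, ← Module.End.mul_apply, Units.mul_inv, Module.End.one_apply]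
    rw [Module.End.mul_apply, Module.End.mul_apply, hadj, ← Module.End.mul_apply Z', ← hcZZ'.eq, Module.End.mul_apply,
      ← hadj', hi, hi]
  · rw [map_mul, hdetf]
    have h1 : LinearMap.det (↑Zu⁻¹ : Module.End F V) * star ((c : F) ^ e) = 1 := by
      rw [← hdetZ', ← hZu, ← map_mul, Units.inv_mul, map_one]
    calc (c : F) ^ e * LinearMap.det (↑Zu⁻¹ : Module.End F V)
        = ν ^ e * (LinearMap.det (↑Zu⁻¹ : Module.End F V) * star ((c : F) ^ e)) := by
          conv_lhs => rw [← hc]
          rw [mul_pow, star_pow, starRingEnd_apply]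
          ring
      _ = ν ^ e := by rw [h1, mul_one]

theorem reached (hF : ∃ b : F, star b ≠ b) : ∀ (N : ℕ) {V : Type v} [AddCommGroup V] [Module F V]
    [FiniteDimensional F V] (H : HSpace F V), Module.finrank F V ≤ N → H.Reached := by
  classical
  intro N
  induction N with
  | zero =>
    intro V _ _ _ H hN
    obtain ⟨D⟩ := exists_decomp H.Te
    refine ⟨D, fun i => ?_⟩
    have h1 := D.finrank_eq
    have h2 : D.e i * (D.p i).natDegree ≤ ∑ k, D.e k * (D.p k).natDegree :=
      Finset.single_le_sum (f := fun k => D.e k * (D.p k).natDegree) (fun _ _ => Nat.zero_le _) (Finset.mem_univ i)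
    have := Nat.mul_pos (Nat.pos_of_ne_zero (D.pos i)) (D.irred i).natDegree_pos
    omega
  | succ N ih =>
    intro V _ _ _ H hN
    rcases Nat.lt_or_ge (Module.finrank F V) (N + 1) with h | h
    · exact ih H (by omega)
    haveI : Nontrivial V := Module.nontrivial_of_finrank_pos (R := F) (by omega)
    obtain ⟨P, e, x, hP, hPm, hP0, he, hx0, hnd, hQx, hQm⟩ := H.exists_cyclic hF
    by_cases htop : H.cyc x = ⊤
    · exact H.reached_of_cyclic hF hP hPm hP0 htop rfl hQx hQm he
    set W := H.cyc x with hW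
    have hxW : x ∈ W := H.mem_cyc.2 ⟨1, by rw [map_one]; rfl⟩
    have hWT : W.map H.T.toLinearMap = W :=
      Submodule.eq_of_le_of_finrank_le (by rintro _ ⟨y, hy, rfl⟩; exact H.cyc_invariant hy)
        (LinearEquiv.finrank_map_eq _ _).ge
    let W' : Submodule F V :=
      { carrier := {y | ∀ z ∈ W, H.B z y = 0}
        add_mem' := fun {a b} ha hb z hz => by rw [map_add, ha z hz, hb z hz, add_zero]
        zero_mem' := fun z _ => map_zero _
        smul_mem' := fun c a ha z hz => by rw [map_smul, ha z hz, smul_zero] }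
    have hW'T : W'.map H.T.toLinearMap = W' := by
      refine Submodule.eq_of_le_of_finrank_le ?_ (LinearEquiv.finrank_map_eq _ _).ge
      rintro _ ⟨y, hy, rfl⟩ z hz
      rw [← hWT] at hz
      obtain ⟨z', hz', rfl⟩ := hz
      simp only [LinearEquiv.coe_coe]
      rw [H.iso]
      exact hy z' hz'
    have hdisj : Disjoint W W' := Submodule.disjoint_def.2 fun y hy hy' => hnd y hy hy'
    have hrank : Module.finrank F V ≤ Module.finrank F W + Module.finrank F W' := by
      let b := Module.finBasis F W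
      let f : V →ₗ[F] (Fin (Module.finrank F W) → F) := LinearMap.pi fun j => H.B (b j).1
      have hker : LinearMap.ker f ≤ W' := fun y hy z hz => by
        have hz' := b.sum_repr ⟨z, hz⟩
        have := congrArg Subtype.val hz'
        rw [Submodule.coe_sum] at this
        simp only [Submodule.coe_smul] at this
        rw [← this, map_sum, LinearMap.sum_apply]
        refine Finset.sum_eq_zero fun j _ => ?_
        rw [H.smul_left, show H.B (b j).1 y = 0 from congrFun (LinearMap.mem_ker.1 hy) j, mul_zero]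
      have h1 := f.finrank_range_add_finrank_ker
      have h2 := Submodule.finrank_mono hker
      have h3 : Module.finrank F (LinearMap.range f) ≤ Module.finrank F W := by
        refine (Submodule.finrank_le _).trans ?_
        rw [Module.finrank_fin_fun]
      omega
    have hc : IsCompl W W' := by
      refine ⟨hdisj, codisjoint_iff.2 (Submodule.eq_top_of_finrank_eq ?_)⟩
      have h1 := Submodule.finrank_sup_add_finrank_inf_eq W W'
      rw [hdisj.eq_bot, finrank_bot] at h1
      have := Submodule.finrank_le (W ⊔ W')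
      omega
    have hnd' : ∀ y ∈ W', (∀ z ∈ W', H.B z y = 0) → y = 0 := fun y hy h => by
      refine H.nondeg y fun z => H.swap_zero ?_
      obtain ⟨a, ha, b, hb, rfl⟩ := Submodule.mem_sup.1 (show z ∈ W ⊔ W' by rw [hc.sup_eq_top]; exact Submodule.mem_top)
      rw [map_add, LinearMap.add_apply, hy a ha, h b hb, add_zero]
    have hlt : Module.finrank F W < Module.finrank F V := Submodule.finrank_lt htop
    have hpos : 0 < Module.finrank F W := Submodule.one_le_finrank_iff.2 (fun hb => hx0 (by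
      rw [hb] at hxW; exact (Submodule.mem_bot F).1 hxW))
    have hsum : Module.finrank F W + Module.finrank F W' = Module.finrank F V :=
      Submodule.finrank_add_eq_of_isCompl hc
    let H₁ := H.restrict W hWT hnd
    let H₂ := H.restrict W' hW'T hnd'
    obtain ⟨D₁, hD₁⟩ := ih H₁ (by omega)
    obtain ⟨D₂, hD₂⟩ := ih H₂ (by omega)
    let E := (Submodule.prodEquivOfIsCompl W W' hc).symm
    have hET : ∀ y, E (H.Te y) = (H₁.Te (E y).1, H₂.Te (E y).2) := fun y => by
      obtain ⟨⟨a, b⟩, rfl⟩ := (Submodule.prodEquivOfIsCompl W W' hc).surjective y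
      apply (Submodule.prodEquivOfIsCompl W W' hc).injective
      simp only [E, LinearEquiv.apply_symm_apply, LinearEquiv.symm_apply_apply]
      rw [Submodule.coe_prodEquivOfIsCompl', Submodule.coe_prodEquivOfIsCompl']
      exact map_add H.T a.1 b.1
    let pp : D₁.κ ⊕ D₂.κ → F[X] := Sum.elim D₁.p D₂.p
    let ee : D₁.κ ⊕ D₂.κ → ℕ := Sum.elim D₁.e D₂.e
    let Ψ : V ≃ₗ[F] (∀ i, AdjoinRoot (pp i ^ ee i)) :=
      (E.trans (D₁.Ψ.prodCongr D₂.Ψ)).trans
        (LinearEquiv.sumPiEquivProdPi F D₁.κ D₂.κ (fun i => AdjoinRoot (pp i ^ ee i))).symm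
    let D : Decomp H.Te :=
      { κ := D₁.κ ⊕ D₂.κ
        fin := inferInstance
        p := pp
        e := ee
        irred := fun i => by rcases i with i | i; exacts [D₁.irred i, D₂.irred i]
        monic := fun i => by rcases i with i | i; exacts [D₁.monic i, D₂.monic i]
        pos := fun i => by rcases i with i | i; exacts [D₁.pos i, D₂.pos i]
        Ψ := Ψ
        comm := fun y i => by
          rcases i with i | i
          · show D₁.Ψ (E (H.Te y)).1 i = AdjoinRoot.root (D₁.p i ^ D₁.e i) * D₁.Ψ (E y).1 i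
            rw [hET]; exact D₁.comm _ i
          · show D₂.Ψ (E (H.Te y)).2 i = AdjoinRoot.root (D₂.p i ^ D₂.e i) * D₂.Ψ (E y).2 i
            rw [hET]; exact D₂.comm _ i }
    have glue : ∀ (u₁ : Module.End F W) (u₂ : Module.End F W') (d : F),
        Commute u₁ H₁.Te → Commute u₂ H₂.Te → (∀ a b, H₁.B (u₁ a) (u₁ b) = H₁.B a b) →
        (∀ a b, H₂.B (u₂ a) (u₂ b) = H₂.B a b) → LinearMap.det u₁ * LinearMap.det u₂ = d →
        ∃ u : Module.End F V, Commute u H.Te ∧ (∀ x y, H.B (u x) (u y) = H.B x y) ∧ LinearMap.det u = d := by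
      intro u₁ u₂ d hc₁ hc₂ hi₁ hi₂ hd
      refine ⟨E.symm.toLinearMap ∘ₗ (u₁.prodMap u₂) ∘ₗ E.toLinearMap, LinearMap.ext fun y => E.injective ?_, ?_, ?_⟩
      · simp only [Module.End.mul_apply, LinearMap.comp_apply, LinearEquiv.coe_coe, LinearEquiv.apply_symm_apply,
          LinearMap.prodMap_apply, hET]
        exact Prod.ext (LinearMap.congr_fun hc₁.eq _) (LinearMap.congr_fun hc₂.eq _)
      · intro y z
        obtain ⟨⟨a, b⟩, rfl⟩ := E.symm.surjective y
        obtain ⟨⟨a', b'⟩, rfl⟩ := E.symm.surjective z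
        simp only [LinearMap.comp_apply, LinearEquiv.coe_coe, LinearEquiv.apply_symm_apply, LinearMap.prodMap_apply]
        simp only [E, LinearEquiv.symm_symm, Submodule.coe_prodEquivOfIsCompl', map_add, LinearMap.add_apply]
        rw [show H.B (u₁ a).1 (u₁ a').1 = H.B a.1 a'.1 from hi₁ a a', show H.B (u₂ b).1 (u₂ b').1 = H.B b.1 b'.1 from hi₂ b b',
          (u₂ b').2 (u₁ a).1 (u₁ a).2, b'.2 a.1 a.2, H.swap_zero ((u₂ b).2 (u₁ a').1 (u₁ a').2), H.swap_zero (b.2 a'.1 a'.2)]
      · rw [← hd, ← LinearMap.det_prodMap]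
        exact LinearMap.det_conj (u₁.prodMap u₂) E.symm
    refine ⟨D, fun i ν hν => ?_⟩
    rcases i with i | i
    · obtain ⟨u, h1, h2, h3⟩ := hD₁ i ν hν
      exact glue u 1 _ h1 (Commute.one_left _) h2 (fun a b => rfl) (by rw [h3, map_one, mul_one]; rfl)
    · obtain ⟨u, h1, h2, h3⟩ := hD₂ i ν hν
      exact glue 1 u _ (Commute.one_left _) h1 (fun a b => rfl) h2 (by rw [h3, map_one, one_mul]; rfl)

end HSpace

section Matrix

open Matrix

variable {q n : ℕ}

/-- The unitary centraliser reaches the powers of order an occurring exponent. -/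
theorem exists_centraliser_GU (hstar : ∀ x : F, star x = x ^ q) (hF : Fintype.card F = q ^ 2)
    (g : ↥(Cfsg.GU n F q)) (k : Fin n) (hk : ((dataOf (g : GL (Fin n) F)).1 k).natDegree ≠ 0) (ν : F)
    (hν : star ν * ν = 1) :
    ∃ c : ↥(Cfsg.GU n F q), c * g = g * c ∧ (c : GL (Fin n) F).1.det = ν ^ (k.val + 1) := by
  classical
  obtain ⟨b, hb⟩ := Hermitian.exists_star_ne hstar hF
  set A := (g : GL (Fin n) F).1 with hA
  have hAu : Aᴴ * A = 1 := (PSUn.mem_GU_iff_star hstar _).1 g.2
  have hform : ∀ (M N : Matrix (Fin n) (Fin n) F) u v,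
      star (M *ᵥ u) ⬝ᵥ (N *ᵥ v) = star u ⬝ᵥ ((Mᴴ * N) *ᵥ v) := fun M N u v => by
    rw [Matrix.star_mulVec, ← Matrix.dotProduct_mulVec, Matrix.mulVec_mulVec]
  let H : HSpace F (Fin n → F) :=
    { B := LinearMap.mk₂'ₛₗ (starRingEnd F) (RingHom.id F) (fun x y => star x ⬝ᵥ y)
        (fun x y z => by simp [add_dotProduct]) (fun c x y => by simp [smul_dotProduct, starRingEnd_apply])
        (fun x y z => by simp [dotProduct_add]) (fun c x y => by simp [dotProduct_smul])
      herm := fun x y => by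
        show star (star x ⬝ᵥ y) = star y ⬝ᵥ x
        simp [dotProduct, star_sum, mul_comm]
      nondeg := fun x hx => funext fun i => by
        have := hx (Pi.single i 1)
        simpa using this
      T := LinearEquiv.ofLinearMap (Matrix.toLinAlgEquiv' A) (Matrix.toLinAlgEquiv' Aᴴ)
        (by rw [← Module.End.mul_eq_comp, ← map_mul, mul_eq_one_comm.1 hAu, map_one]; rfl)
        (by rw [← Module.End.mul_eq_comp, ← map_mul, hAu, map_one]; rfl)
      iso := fun x y => by
        show star (A *ᵥ x) ⬝ᵥ (A *ᵥ y) = star x ⬝ᵥ y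
        rw [hform, hAu, one_mulVec] }
  obtain ⟨D, hD⟩ := H.reached ⟨b, hb⟩ (Module.finrank F (Fin n → F)) le_rfl
  set D' := decompOf (g : GL (Fin n) F) with hD'
  have hpart : D.part (k.val + 1) = D'.part (k.val + 1) := by
    have := D'.part_eq (T' := H.Te) D id Function.injective_id (fun P hP hm => ⟨hP, hm, rfl⟩)
      (fun Q hQ hm => ⟨Q, hQ, hm, rfl⟩) (fun P _ _ j => rfl) (k.val + 1) (Nat.succ_ne_zero _)
    rwa [Multiset.map_id] at this
  obtain ⟨i, hi⟩ : ∃ i, D.e i = k.val + 1 := by
    by_contra! h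
    refine hk ?_
    show ((D'.part (k.val + 1)).prod).natDegree = 0
    rw [← hpart, Decomp.part, Finset.filter_eq_empty_iff.2 (fun i _ => h i)]
    simp
  obtain ⟨u, huc, hui, hud⟩ := hD i ν hν
  set C := Matrix.toLinAlgEquiv'.symm u with hC
  have hCu : Cᴴ * C = 1 := by
    ext i j
    have h1 := hui (Pi.single i 1) (Pi.single j 1)
    rw [show u = Matrix.toLinAlgEquiv' C from (AlgEquiv.apply_symm_apply _ _).symm] at h1
    change star (C *ᵥ Pi.single i 1) ⬝ᵥ (C *ᵥ Pi.single j 1) = star (Pi.single i 1) ⬝ᵥ Pi.single j 1 at h1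
    rw [hform] at h1
    simpa [Matrix.one_apply, Pi.single_apply, ← Pi.single_star, eq_comm] using h1
  let c : GL (Fin n) F := ⟨C, Cᴴ, mul_eq_one_comm.1 hCu, hCu⟩
  refine ⟨⟨c, (PSUn.mem_GU_iff_star hstar c).2 hCu⟩, Subtype.ext (Units.ext ?_), ?_⟩
  · show C * A = A * C
    apply Matrix.toLinAlgEquiv'.injective
    rw [map_mul, map_mul, hC, AlgEquiv.apply_symm_apply]
    exact huc.eq
  · show C.det = _
    rw [← hi, ← hud, hC, ← det_toLinAlgEquiv', AlgEquiv.apply_symm_apply]

end Matrix

end Cfsg.Agent.Small.ClassNumberU
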