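import Mathlib
import Cfsg.Agent.Lib.Small.ClassNumberU.Count
import Cfsg.Agent.Lib.Small.ClassNumberU.Conj
import Cfsg.Agent.Lib.Small.ClassNumberU.SplitDet
import Cfsg.Agent.Lib.Small.UnitaryRegular

/-!
The classes of the unitary and special unitary groups by parameters.
-/

set_option autoImplicit false
set_option linter.unusedSectionVars false
set_option linter.style.haveILetI false

namespace Cfsg.Agent.Small.ClassNumberU

open Polynomial Cfsg.Agent.Small.ClassNumber

universe u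

variable {F : Type u} [Field F] [Fintype F] [StarRing F] {q n : ℕ}

/-- the shape of the parameters -/
noncomputable def shapeOf (g : ↥(Cfsg.GU n F q)) : Fin n → ℕ :=
  fun k => ((dataOf (g : GL (Fin n) F)).1 k).natDegree

theorem shapeOf_mem (g : ↥(Cfsg.GU n F q)) : shapeOf g ∈ shapes n n :=
  mem_shapes.2 (dataOf (g : GL (Fin n) F)).2.2

/-- the parameters -/
noncomputable def dataD (hstar : ∀ x : F, star x = x ^ q) (g : ↥(Cfsg.GU n F q)) : SeqD F (shapeOf g) :=
  ⟨(dataOf (g : GL (Fin n) F)).1, fun k => ⟨((dataOf (g : GL (Fin n) F)).2.1 k).1,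
    ((dataOf (g : GL (Fin n) F)).2.1 k).2, dataOf_selfDual ((PSUn.mem_GU_iff_star hstar _).1 g.2) k, rfl⟩⟩

theorem isConj_of_dataOf (hstar : ∀ x : F, star x = x ^ q) (hF : Fintype.card F = q ^ 2)
    {g h : ↥(Cfsg.GU n F q)} (he : (dataOf (g : GL (Fin n) F)).1 = (dataOf (h : GL (Fin n) F)).1) : IsConj g h :=
  isConj_GU_of_GL hstar hF g h (isConj_of_data (Subtype.ext he))

/-- The classes of the general unitary group. -/
theorem card_gu_le (hstar : ∀ x : F, star x = x ^ q) (hF : Fintype.card F = q ^ 2) :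
    Nat.card (ConjClasses ↥(Cfsg.GU n F q)) ≤ ∑ d ∈ shapes n n, ∏ k, wgt q (d k) := by
  classical
  refine le_trans ?_ (Finset.sum_le_sum fun d _ => card_seqD hstar hF d)
  rw [← Finset.sum_coe_sort, ← Nat.card_sigma]
  refine Nat.card_le_card_of_injective (fun C =>
    (⟨⟨_, shapeOf_mem (ConjClasses.exists_rep C).choose⟩, dataD hstar (ConjClasses.exists_rep C).choose⟩ :
      Σ d : {d // d ∈ shapes n n}, SeqD F d.1)) fun C D h => ?_
  have h1 := congrArg (fun x : Σ d : {d // d ∈ shapes n n}, SeqD F d.1 => x.2.1) h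
  rw [← (ConjClasses.exists_rep C).choose_spec, ← (ConjClasses.exists_rep D).choose_spec]
  exact ConjClasses.mk_eq_mk_iff_isConj.2 (isConj_of_dataOf hstar hF h1)

set_option maxHeartbeats 2000000 in
/-- The classes of the special unitary group. -/
theorem card_su_le (hstar : ∀ x : F, star x = x ^ q) (hF : Fintype.card F = q ^ 2) :
    (q + 1) * Nat.card (ConjClasses ↥(Cfsg.SU n F q)) ≤ ∑ d ∈ shapes n n, (∏ k, wgt q (d k)) * hsh q d ^ 2 := by
  classical
  let D := {d // d ∈ shapes n n}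
  let P : D → Type u := fun d =>
    {G : SeqD F d.1 // pdata G.1 = (-1) ^ n} × (muU F q ⧸ (powMonoidHom (hsh q d.1) : muU F q →* muU F q).range)
  have hcard : (q + 1) * Nat.card (Σ d : D, P d) ≤ ∑ d ∈ shapes n n, (∏ k, wgt q (d k)) * hsh q d ^ 2 := by
    rw [Nat.card_sigma, Finset.mul_sum, ← Finset.sum_coe_sort (shapes n n)]
    refine Finset.sum_le_sum fun d _ => ?_
    have hq : Nat.card (muU F q ⧸ (powMonoidHom (hsh q d.1) : muU F q →* muU F q).range) = hsh q d.1 := by
      have h1 := Subgroup.card_eq_card_quotient_mul_card_subgroup (powMonoidHom (hsh q d.1) : muU F q →* muU F q).range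
      have h2 : hsh q d.1 * _ = q + 1 := card_pow_range hF (Nat.gcd_dvd_left (q + 1) _ : hsh q d.1 ∣ q + 1)
      rw [card_muU hF, ← h2] at h1
      exact (Nat.eq_of_mul_eq_mul_right Nat.card_pos h1).symm
    rw [Nat.card_prod, hq, sq, ← mul_assoc, ← mul_assoc]
    exact Nat.mul_le_mul_right _ (card_seqD_pdata hstar hF d.1 _)
  refine le_trans (Nat.mul_le_mul_left _ ?_) hcard
  -- elements of `SU` inside `GU`
  let u : ↥(Cfsg.SU n F q) → ↥(Cfsg.GU n F q) := PSUn.toU
  have hudet : ∀ g, (u g : GL (Fin n) F).1.det = 1 := fun g => g.1.2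
  have hp : ∀ g : ↥(Cfsg.SU n F q), pdata (dataOf (u g : GL (Fin n) F)).1 = (-1) ^ n := fun g => by
    have h := det_dataOf (u g : GL (Fin n) F)
    rw [hudet g] at h
    change (1 : F) = (-1) ^ n * pdata (dataOf (u g : GL (Fin n) F)).1 at h
    calc pdata (dataOf (u g : GL (Fin n) F)).1 = (-1) ^ n * ((-1) ^ n * pdata (dataOf (u g : GL (Fin n) F)).1) := by
          rw [← mul_assoc, ← pow_add, Even.neg_one_pow ⟨n, rfl⟩, one_mul]
      _ = (-1) ^ n := by rw [← h, mul_one]
  let rep : ConjClasses ↥(Cfsg.SU n F q) → ↥(Cfsg.SU n F q) := fun C => (ConjClasses.exists_rep C).choose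
  have hrep : ∀ C, ConjClasses.mk (rep C) = C := fun C => (ConjClasses.exists_rep C).choose_spec
  let base : (Fin n → F[X]) → ↥(Cfsg.GU n F q) :=
    Function.invFun fun g : ↥(Cfsg.GU n F q) => (dataOf (g : GL (Fin n) F)).1
  let key : ↥(Cfsg.GU n F q) → (Fin n → F[X]) := fun g => (dataOf (g : GL (Fin n) F)).1
  have hbase : ∀ C, IsConj (base (key (u (rep C)))) (u (rep C)) := fun C =>
    isConj_of_dataOf hstar hF (Function.invFun_eq (f := key) ⟨_, rfl⟩)
  choose x hx using fun C => isConj_iff.1 (hbase C)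
  have hdetU : ∀ y : ↥(Cfsg.GU n F q), Matrix.GeneralLinearGroup.det (y : GL (Fin n) F) ∈ muU F q := fun y => by
    refine mem_muU hstar ?_
    have h := congrArg Matrix.det ((PSUn.mem_GU_iff_star hstar _).1 y.2)
    rw [Matrix.det_mul, Matrix.det_conjTranspose, Matrix.det_one] at h
    exact h
  let dU : ↥(Cfsg.GU n F q) →* muU F q :=
    ((Matrix.GeneralLinearGroup.det : GL (Fin n) F →* Fˣ).comp (Cfsg.GU n F q).subtype).codRestrict _ hdetU
  refine Nat.card_le_card_of_injective (fun C => (⟨⟨_, shapeOf_mem (u (rep C))⟩,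
    ⟨dataD hstar (u (rep C)), hp (rep C)⟩, QuotientGroup.mk (dU (x C))⟩ : Σ d : D, P d)) fun C C' hCC => ?_
  have hG : key (u (rep C)) = key (u (rep C')) := congrArg (fun a : Σ d : D, P d => a.2.1.1.1) hCC
  obtain ⟨b, hb⟩ : ∃ b, b = base (key (u (rep C))) := ⟨_, rfl⟩
  have hxC := hx C
  have hxC' := hx C'
  rw [← hb] at hxC
  rw [← hG, ← hb] at hxC'
  have hkb : key b = key (u (rep C)) := by rw [hb]; exact Function.invFun_eq (f := key) ⟨_, rfl⟩
  obtain ⟨μ, hμ⟩ : ∃ μ : muU F q, μ ^ hsh q (shapeOf (u (rep C))) = (dU (x C))⁻¹ * dU (x C') := by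
    have key' : ∀ (a a' : Σ d : D, P d) (y y' : muU F q),
        a.2.2 = QuotientGroup.mk y → a'.2.2 = QuotientGroup.mk y' → a = a' →
          ∃ μ : muU F q, μ ^ hsh q a.1.1 = y⁻¹ * y' := by
      intro a a' y y' h h' he
      subst he
      obtain ⟨μ, hμ⟩ := QuotientGroup.eq.1 (h.symm.trans h')
      exact ⟨μ, hμ⟩
    exact key' _ _ _ _ rfl rfl hCC
  let K : Subgroup (muU F q) := (Subgroup.centralizer {b}).map dU
  have hK : μ ^ hsh q (shapeOf (u (rep C))) ∈ K := by
    refine pow_hsh_mem hF _ K (fun k hk ν => ?_) μ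
    have hk' : ((dataOf (b : GL (Fin n) F)).1 k).natDegree ≠ 0 := by
      rw [show (dataOf (b : GL (Fin n) F)).1 = key (u (rep C)) from hkb]; exact hk
    have hν : star ((ν : Fˣ) : F) * ((ν : Fˣ) : F) = 1 := by
      have := congrArg Units.val (MonoidHom.mem_ker.1 ν.2)
      rw [powMonoidHom_apply, Units.val_pow_eq_pow_val, Units.val_one, pow_succ, ← hstar] at this
      exact this
    obtain ⟨c, hc, hd⟩ := exists_centraliser_GU hstar hF b k hk' _ hν
    refine Subgroup.mem_map.2 ⟨c, Subgroup.mem_centralizer_iff.2 fun y hy => ?_, Subtype.ext (Units.ext ?_)⟩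
    · rw [Set.mem_singleton_iff.1 hy]; exact hc.symm
    · rw [SubgroupClass.coe_pow, Units.val_pow_eq_pow_val]
      exact hd
  obtain ⟨c, hc, hd⟩ := Subgroup.mem_map.1 hK
  have hc' : c⁻¹ * b * c = b := by
    rw [mul_assoc, Subgroup.mem_centralizer_iff.1 hc b rfl, inv_mul_cancel_left]
  rw [hμ] at hd
  let y : ↥(Cfsg.GU n F q) := x C' * c⁻¹ * (x C)⁻¹
  have hy : y * u (rep C) * y⁻¹ = u (rep C') := by
    rw [← hxC, ← hxC']
    calc y * (x C * b * (x C)⁻¹) * y⁻¹ = x C' * (c⁻¹ * b * c) * (x C')⁻¹ := by simp only [y]; group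
      _ = _ := by rw [hc']
  have hdy : dU y = 1 := by
    simp only [y, map_mul, map_inv, hd]
    rw [_root_.mul_inv_rev, inv_inv, mul_assoc, mul_assoc, mul_inv_cancel, mul_one, mul_inv_cancel]
  have hy1 : (y : GL (Fin n) F).1.det = 1 :=
    congrArg (fun a : muU F q => ((a : Fˣ) : F)) hdy
  rw [← hrep C, ← hrep C', ConjClasses.mk_eq_mk_iff_isConj, isConj_iff]
  refine ⟨UnitaryRegular.lift hstar y hy1, mul_inv_eq_iff_eq_mul.2 ?_⟩
  apply Subtype.ext
  apply Subtype.ext
  exact congrArg (fun a : ↥(Cfsg.GU n F q) => (a : GL (Fin n) F).1) (mul_inv_eq_iff_eq_mul.1 hy)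

end Cfsg.Agent.Small.ClassNumberU
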